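import Cfsg.Agent.H272.Pb.EpsTwo
import Cfsg.Agent.H208.Pb.SecSum
import Cfsg.Agent.S4646
import Cfsg.Agent.S0887
import Cfsg.Agent.H656.OverPrincipal
import Cfsg.Agent.CharactersDeep.CliffordSum

/-!
# S4876: lower bounds for the weights `eps` (dimension of the invariant Brauer functions)

* `two_le_eps_of_not` : `N` without a normal `p`-complement;
* `card_orders_le` : number of orders of `p`-regular elements `≤ eps` + number of irreducible characters outside
  `B₀(N)`;
* `eps_le_rank` : `eps p M N ⊤ ≤ l(B₀(Y))` for normal subgroups `N` of `Y`.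
-/

set_option autoImplicit false
set_option linter.unusedSectionVars false

open Cfsg
open scoped ComplexConjugate

namespace Cfsg.Agent.H80.K6

open Cfsg.Agent.H617.Pb Cfsg.Agent.H684.BlockTools Cfsg.Agent.Characters Cfsg.Agent.H272.Pb
open Cfsg.Agent.Characters.Core

universe u

variable {Γ : Type u} [Group Γ] [Finite Γ] {p : ℕ} [Fact p.Prime] {M : Ideal AlgInt}

/-- if all members of the principal block are constant on the `p`-regular elements, the rank is 1 -/
theorem rank_one_of_ker {G : Type u} [Group G] [Finite G] (hM : IsPModular p M)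
    (h : ∀ x : G, IsPRegular p x → ∀ χ ∈ principalBlock M G, (χ : G → ℂ) x = (χ : G → ℂ) 1) :
    blockRank p (principalBlock M G) = 1 := by
  classical
  unfold blockRank
  have hne : pRegularPart p (fun _ : G => (1 : ℂ)) ≠ 0 := by
    intro h0
    have h1 := congrFun h0 1
    unfold pRegularPart at h1
    have h2 : IsPRegular p (1 : G) := by
      unfold IsPRegular
      rw [orderOf_one]
      exact fun h => (Fact.out : p.Prime).one_lt.ne' (Nat.dvd_one.1 h)
    rw [if_pos h2] at h1
    exact one_ne_zero h1
  have h1 : Submodule.span ℂ ((fun χ : IrrCharacter G => pRegularPart p (χ : G → ℂ)) '' principalBlock M G) =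
      Submodule.span ℂ {pRegularPart p (fun _ : G => (1 : ℂ))} := by
    apply le_antisymm
    · rw [Submodule.span_le]
      rintro _ ⟨χ, hχ, rfl⟩
      have h2 : pRegularPart p (χ : G → ℂ) = (χ : G → ℂ) 1 • pRegularPart p (fun _ : G => (1 : ℂ)) := by
        funext x
        unfold pRegularPart
        by_cases hx : IsPRegular p x
        · simp only [hx, if_true, Pi.smul_apply, smul_eq_mul, mul_one]
          exact h x hx χ hχ
        · simp only [hx, if_false, Pi.smul_apply, smul_eq_mul, mul_zero]
      change pRegularPart p (χ : G → ℂ) ∈ _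
      rw [h2]
      exact Submodule.smul_mem _ _ (Submodule.mem_span_singleton_self _)
    · rw [Submodule.span_le, Set.singleton_subset_iff]
      exact Submodule.subset_span ⟨triv G, triv_mem hM, rfl⟩
  rw [h1, finrank_span_singleton hne]

/-- `N` has no normal `p`-complement. -/
theorem two_le_eps_of_not (hM : IsPModular p M) (N C : Subgroup Γ) (hn : ∀ c ∈ C, ∀ x ∈ N, c * x * c⁻¹ ∈ N)
    (hN : ¬ HasNormalPComplement p ↥N) : 2 ≤ eps p M N C := by
  classical
  have hfin := finite_principal (M := M) (G := ↥N)
  let _ : Fintype (principalBlock M ↥N) := Fintype.ofFinite _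
  let a : ↥(Inv p M N C) := ⟨f0 p N, f0_mem hM N C hn⟩
  let b : ↥(Inv p M N C) := ⟨pRegularPart p (rh M N), rh_mem hM N C hn⟩
  have hli : LinearIndependent ℂ ![a, b] := by
    rw [LinearIndependent.pair_iff]
    intro s t hst
    have hst' : ∀ x : ↥N, IsPRegular p x → s + t * rh M N x = 0 := by
      intro x hx
      have h1 := congrFun (congrArg Subtype.val hst) x
      have h2 : s * f0 p N x + t * pRegularPart p (rh M N) x = 0 := h1
      unfold f0 pRegularPart at h2
      rw [if_pos hx, if_pos hx, mul_one] at h2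
      exact h2
    have ht : t = 0 := by
      by_contra ht
      have hone := hst' 1 (reg_one N)
      -- the `p`-regular elements are in the kernels
      have hker : ∀ x : ↥N, IsPRegular p x → ∀ χ : principalBlock M ↥N,
          ((χ : IrrCharacter ↥N) : ↥N → ℂ) x = ((χ : IrrCharacter ↥N) : ↥N → ℂ) 1 := by
        intro x hx
        refine ker_of_eq (fun χ : principalBlock M ↥N => ((χ : IrrCharacter ↥N) : ↥N → ℂ))
          (fun χ => (χ : IrrCharacter ↥N).2) ?_
        have h1 := hst' x hx
        have h2 : t * rh M N x = t * rh M N 1 := by linear_combination h1 - hone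
        exact mul_left_cancel₀ ht h2
      have := Fintype.ofFinite ↥N
      exact hN (S4646.compl_of_rank_one hM (rank_one_of_ker hM fun x hx χ hχ => hker x hx ⟨χ, hχ⟩))
    refine ⟨?_, ht⟩
    have h1 := hst' 1 (reg_one N)
    rw [ht, zero_mul, add_zero] at h1
    exact h1
  have h1 := hli.fintype_card_le_finrank
  rw [Fintype.card_fin] at h1
  exact h1

/-- the indicator function of the elements of order `m` -/
noncomputable def ordFun (N : Subgroup Γ) (m : ℕ) : ↥N → ℂ := fun x => by
  classical exact if orderOf x = m then 1 else 0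

/-- **Orders.** If `N` contains `p`-regular elements of all orders in `O`, then `|O|` is at most `eps` plus the number
of irreducible characters outside the principal block. -/
theorem card_orders_le (N C : Subgroup Γ) (hn : ∀ c ∈ C, ∀ x ∈ N, c * x * c⁻¹ ∈ N)
    (O : Finset ℕ) (hO : ∀ m ∈ O, ¬ p ∣ m ∧ ∃ x : ↥N, orderOf x = m) :
    O.card ≤ eps p M N C + Nat.card {θ : IrrCharacter ↥N // θ ∉ principalBlock M ↥N} := by
  classical
  have : Finite (IrrCharacter ↥N) := Core.finite_irr
  have := Fintype.ofFinite (IrrCharacter ↥N)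
  have := Fintype.ofFinite ↥N
  let Z := {θ : IrrCharacter ↥N // θ ∉ principalBlock M ↥N}
  -- the order functions, restricted to the regular elements
  let L : (O → ℂ) →ₗ[ℂ] (↥N → ℂ) := Fintype.linearCombination ℂ (fun m : O => ordFun N m)
  have hLapp : ∀ (c : O → ℂ) (x : ↥N), L c x = ∑ m : O, c m * (if orderOf x = (m : ℕ) then 1 else 0) := by
    intro c x
    simp only [L, Fintype.linearCombination_apply, Finset.sum_apply, Pi.smul_apply, smul_eq_mul]
    rfl
  have hLcl : ∀ c : O → ℂ, IsClassFunction ↥N (L c) := by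
    intro c g x
    rw [hLapp, hLapp]
    have : orderOf (x * g * x⁻¹) = orderOf g := by
      have h := MulEquiv.orderOf_eq (MulAut.conj x) g
      rwa [MulAut.conj_apply] at h
    rw [this]
  have hLorb : ∀ (c : O → ℂ) (x y : ↥N), orderOf x = orderOf y → L c x = L c y := by
    intro c x y h
    rw [hLapp, hLapp, h]
  have hLsing : ∀ (c : O → ℂ) (x : ↥N), ¬ IsPRegular p x → L c x = 0 := by
    intro c x hx
    rw [hLapp]
    refine Finset.sum_eq_zero fun m _ => ?_
    rw [if_neg, mul_zero]
    intro h
    apply hx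
    unfold IsPRegular
    rw [h]
    exact (hO m m.2).1
  -- coordinates at the characters outside the block
  let R : (O → ℂ) →ₗ[ℂ] (Z → ℂ) :=
    { toFun := fun c z => classInner (L c) (z.1 : ↥N → ℂ)
      map_add' := by
        intro c c'
        funext z
        rw [map_add]
        exact classInner_add_left _ _ _
      map_smul' := by
        intro r c
        funext z
        rw [map_smul]
        exact classInner_smul_left _ _ _ }
  have hinv : ∀ c ∈ LinearMap.ker R, L c ∈ Inv p M N C := by
    intro c hc
    refine ⟨?_, ?_⟩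
    · have h1 := classFunction_eq_sum (hLcl c)
      have h2 : L c = ∑ χ : IrrCharacter ↥N, classInner (L c) (χ : ↥N → ℂ) • pRegularPart p (χ : ↥N → ℂ) := by
        funext x
        rw [Finset.sum_apply]
        by_cases hx : IsPRegular p x
        · have h3 := congrFun h1 x
          rw [Finset.sum_apply] at h3
          rw [h3]
          refine Finset.sum_congr rfl fun χ _ => ?_
          simp only [Pi.smul_apply, pRegularPart, hx, if_true]
        · rw [hLsing c x hx]
          refine (Finset.sum_eq_zero fun χ _ => ?_).symm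
          simp only [Pi.smul_apply, pRegularPart, hx, if_false, smul_zero]
      rw [h2]
      refine Submodule.sum_mem _ fun χ _ => ?_
      by_cases hχ : χ ∈ principalBlock M ↥N
      · exact Submodule.smul_mem _ _ (Submodule.subset_span ⟨χ, hχ, rfl⟩)
      · have h3 : R c ⟨χ, hχ⟩ = 0 := by
          rw [LinearMap.mem_ker.1 hc]
          rfl
        have h4 : classInner (L c) (χ : ↥N → ℂ) = 0 := h3
        rw [h4, zero_smul]
        exact Submodule.zero_mem _
    · intro d hd x y h
      obtain ⟨f, hf⟩ := exists_cj N C hn hd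
      refine hLorb c y x ?_
      rw [← hf x y h]
      exact orderOf_injective f.toMonoidHom f.injective x
  let K : ↥(LinearMap.ker R) →ₗ[ℂ] ↥(Inv p M N C) :=
    (L.domRestrict (LinearMap.ker R)).codRestrict (Inv p M N C) fun c => hinv c.1 c.2
  have hLinj : Function.Injective L := by
    rw [injective_iff_map_eq_zero]
    intro c hc
    funext m
    obtain ⟨x, hx⟩ := (hO m m.2).2
    have h1 := congrFun hc x
    rw [hLapp, Finset.sum_eq_single m] at h1
    · rw [if_pos hx, mul_one] at h1
      exact h1
    · intro m' _ hm'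
      rw [if_neg, mul_zero]
      intro h
      exact hm' (Subtype.ext (h.symm.trans hx))
    · intro h
      exact absurd (Finset.mem_univ m) h
  have hKinj : Function.Injective K := by
    intro a b hab
    apply Subtype.ext
    exact hLinj (congrArg Subtype.val hab)
  have h1 := LinearMap.finrank_le_finrank_of_injective hKinj
  have h2 := LinearMap.finrank_range_add_finrank_ker R
  have h3 : Module.finrank ℂ ↥(LinearMap.range R) ≤ Nat.card Z := by
    refine (Submodule.finrank_le _).trans ?_
    rw [Module.finrank_fintype_fun_eq_card, Nat.card_eq_fintype_card]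
  have h4 : Module.finrank ℂ (O → ℂ) = O.card := by
    rw [Module.finrank_fintype_fun_eq_card, Fintype.card_coe]
  have h5 : Module.finrank ℂ ↥(LinearMap.ker R) ≤ Module.finrank ℂ ↥(Inv p M N C) := h1
  have h6 : Nat.card Z = Nat.card {θ : IrrCharacter ↥N // θ ∉ principalBlock M ↥N} := rfl
  have h7 : O.card = Module.finrank ℂ (O → ℂ) := h4.symm
  have h8 : Module.finrank ℂ (O → ℂ) ≤ Nat.card Z + Module.finrank ℂ ↥(Inv p M N C) := by
    rw [← h2]
    exact Nat.add_le_add h3 h5
  unfold eps
  rw [h7, ← h6, add_comm (Module.finrank ℂ ↥(Inv p M N C))]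
  exact h8

/-- averaging over the conjugates -/
noncomputable def avg {Y : Type u} [Group Y] [Fintype Y] (N : Subgroup Y) [N.Normal] : (↥N → ℂ) →ₗ[ℂ] (↥N → ℂ) where
  toFun f := fun n => (Nat.card Y : ℂ)⁻¹ * ∑ y : Y, f (MulAut.conjNormal y n)
  map_add' := by
    intro f g
    funext n
    simp only [Pi.add_apply]
    rw [Finset.sum_add_distrib, mul_add]
  map_smul' := by
    intro r f
    funext n
    simp only [Pi.smul_apply, smul_eq_mul, RingHom.id_apply]
    rw [← Finset.mul_sum]
    ring

theorem avg_apply {Y : Type u} [Group Y] [Fintype Y] (N : Subgroup Y) [N.Normal] (f : ↥N → ℂ) (n : ↥N) :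
    avg N f n = (Nat.card Y : ℂ)⁻¹ * ∑ y : Y, f (MulAut.conjNormal y n) := rfl

theorem avg_eq_self {Y : Type u} [Group Y] [Fintype Y] (N : Subgroup Y) [N.Normal] {f : ↥N → ℂ}
    (h : ∀ (y : Y) (n : ↥N), f (MulAut.conjNormal y n) = f n) : avg N f = f := by
  funext n
  rw [avg_apply]
  simp only [h, Finset.sum_const, Finset.card_univ, nsmul_eq_mul]
  rw [← Nat.card_eq_fintype_card, ← mul_assoc, inv_mul_cancel₀, one_mul]
  exact Nat.cast_ne_zero.2 Nat.card_pos.ne'

/-- the average of a constituent is a multiple of the restriction -/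
theorem avg_constituent {Y : Type u} [Group Y] [Fintype Y] (N : Subgroup Y) [N.Normal] [Fintype N] {χ : Y → ℂ}
    (hχ : IsIrrCharacter Y χ) {θ : ↥N → ℂ} (hθ : IsIrrCharacter ↥N θ)
    (h0 : classInner (fun n : N => χ n) θ ≠ 0) :
    ∃ c : ℂ, avg N θ = c • fun n : ↥N => χ n := by
  classical
  have hcl := CharactersDeep.CliffordSum.restrict_eq_smul_sum N hχ hθ h0
  set e := classInner (fun n : N => χ n) θ with he
  set T := Finset.univ.image (fun x : Y => θ ∘ (MulAut.conjNormal x : MulAut N)) with hT
  -- every fibre has the same size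
  have hfib : ∀ ψ ∈ T, (Finset.univ.filter fun x : Y => θ ∘ (MulAut.conjNormal x : MulAut N) = ψ).card =
      (Finset.univ.filter fun x : Y => θ ∘ (MulAut.conjNormal x : MulAut N) = θ).card := by
    intro ψ hψ
    obtain ⟨y, -, rfl⟩ := Finset.mem_image.1 hψ
    refine Finset.card_bij' (fun x _ => x * y⁻¹) (fun x _ => x * y) ?_ ?_ ?_ ?_
    · intro x hx
      rw [Finset.mem_filter] at hx ⊢
      refine ⟨Finset.mem_univ _, ?_⟩
      exact (CharactersDeep.CliffordSum.comp_conjNormal_eq_iff N θ y x).1 hx.2
    · intro x hx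
      rw [Finset.mem_filter] at hx ⊢
      refine ⟨Finset.mem_univ _, ?_⟩
      refine (CharactersDeep.CliffordSum.comp_conjNormal_eq_iff N θ y (x * y)).2 ?_
      rw [mul_inv_cancel_right]
      exact hx.2
    · intro x _
      group
    · intro x _
      group
  set m := (Finset.univ.filter fun x : Y => θ ∘ (MulAut.conjNormal x : MulAut N) = θ).card with hm
  have hsum : ∀ n : ↥N, ∑ y : Y, θ (MulAut.conjNormal y n) = (m : ℂ) * ∑ ψ ∈ T, ψ n := by
    intro n
    have h1 : ∑ y : Y, θ (MulAut.conjNormal y n) = ∑ y : Y, (θ ∘ (MulAut.conjNormal y : MulAut N)) n := rfl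
    rw [h1, ← Finset.sum_fiberwise_of_maps_to (s := Finset.univ) (t := T)
      (g := fun x : Y => θ ∘ (MulAut.conjNormal x : MulAut N)) (fun x _ => Finset.mem_image_of_mem _ (Finset.mem_univ x)),
      Finset.mul_sum]
    refine Finset.sum_congr rfl fun ψ hψ => ?_
    rw [Finset.sum_congr rfl (g := fun _ => ψ n) (fun x hx => by rw [(Finset.mem_filter.1 hx).2]),
      Finset.sum_const, hfib ψ hψ, nsmul_eq_mul]
  refine ⟨(Nat.card Y : ℂ)⁻¹ * m * e⁻¹, ?_⟩
  funext n
  rw [avg_apply, hsum, Pi.smul_apply, smul_eq_mul]
  have h2 := congrFun hcl n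
  simp only [Pi.smul_apply, Finset.sum_apply, smul_eq_mul] at h2
  rw [h2]
  field_simp

/-- **Invariants.** `eps p M N ⊤ ≤ l(B₀(Y))`. -/
theorem eps_le_rank {Y : Type u} [Group Y] [Finite Y] (hM : IsPModular p M) (N : Subgroup Y) [hN : N.Normal] :
    eps p M N ⊤ ≤ blockRank p (principalBlock M Y) := by
  classical
  have := Fintype.ofFinite Y
  have := Fintype.ofFinite ↥N
  have : Finite (IrrCharacter Y) := Core.finite_irr
  have : Finite (IrrCharacter ↥N) := Core.finite_irr
  let R : (Y → ℂ) →ₗ[ℂ] (↥N → ℂ) := LinearMap.funLeft ℂ ℂ (fun n : ↥N => (n : Y))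
  set V := Submodule.span ℂ ((fun χ : IrrCharacter Y => pRegularPart p (χ : Y → ℂ)) '' principalBlock M Y) with hV
  have hreg : ∀ (y : Y) (n : ↥N), IsPRegular p (MulAut.conjNormal y n) ↔ IsPRegular p n := fun y n =>
    reg_iff (MulAut.conjNormal y : MulAut N) n
  have hregN : ∀ n : ↥N, IsPRegular p (n : Y) ↔ IsPRegular p n := by
    intro n
    unfold IsPRegular
    rw [Subgroup.orderOf_coe]
  have key : ∀ φ ∈ Br p M N, avg N φ ∈ V.map R := by
    intro φ hφ
    unfold Br at hφ
    induction hφ using Submodule.span_induction with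
    | mem ψ hψ =>
      obtain ⟨θ, hθ, rfl⟩ := hψ
      obtain ⟨P⟩ : Nonempty (Sylow p Y) := inferInstance
      obtain ⟨χ, hχ, hover⟩ := H656.OverPrincipal.exists_over hM N P
        (by rw [Subgroup.normalizer_eq_top]; exact le_top) θ hθ
      obtain ⟨c, hc⟩ := avg_constituent N χ.2 θ.2 hover
      refine ⟨c • pRegularPart p (χ : Y → ℂ), Submodule.smul_mem _ _ (Submodule.subset_span ⟨χ, hχ, rfl⟩), ?_⟩
      funext n
      rw [avg_apply]
      show c • pRegularPart p (χ : Y → ℂ) (n : Y) = _
      by_cases hx : IsPRegular p n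
      · have h1 := congrFun hc n
        rw [avg_apply] at h1
        simp only [pRegularPart, (hregN n).2 hx, if_true, (hreg _ n).2 hx]
        exact h1.symm
      · simp only [pRegularPart, mt (hregN n).1 hx, if_false, mt (hreg _ n).1 hx, smul_zero, Finset.sum_const_zero,
          mul_zero]
    | zero => rw [map_zero]; exact Submodule.zero_mem _
    | add a b _ _ ha hb => rw [map_add]; exact Submodule.add_mem _ ha hb
    | smul r a _ ha => rw [map_smul]; exact Submodule.smul_mem _ _ ha
  have hle : Inv p M N ⊤ ≤ V.map R := by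
    intro φ hφ
    have h1 := key φ hφ.1
    rwa [avg_eq_self N (fun y n => hφ.2 y trivial n _ (MulAut.conjNormal_apply y n))] at h1
  unfold eps blockRank
  exact (Submodule.finrank_mono hle).trans (Submodule.finrank_map_le R V)

end Cfsg.Agent.H80.K6
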