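import Mathlib
import Cfsg.Agent.H774.K0.Six
import Cfsg.Agent.H656.OverPrincipal
import Cfsg.Agent.S0887

/-!
# S4876, criterion (H): a character of positive height

If `p` is odd, `p² ∣ |G|` and a normal subgroup `K` of `G` has a character of degree divisible by `p` in its
principal block, then `k(B₀(G)) ≥ 7`.
-/

set_option autoImplicit false

open Cfsg

namespace Cfsg.Agent.H80.K6

open Cfsg.Agent.Characters.Core Cfsg.Agent.Blocks.Basic

universe u

variable {G : Type u} [Group G] [Finite G] {p : ℕ} {M : Ideal AlgInt}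

/-- a character of positive height in `B₀(G)` -/
theorem seven_of_height (hM : IsPModular p M) (hp2 : p ≠ 2) (hG : p ^ 2 ∣ Nat.card G) {χ : IrrCharacter G}
    (hχ : χ ∈ principalBlock M G) (hd : p ∣ charDegree (χ : G → ℂ)) : 7 ≤ Nat.card (principalBlock M G) := by
  classical
  have h6 := H774.K0.six_le_card hp2 hM hG
  have hf : Finite (IrrCharacter G) := finite_irr
  have h1 : Nat.card {χ : IrrCharacter G // χ ∈ principalBlock M G ∧ ¬ p ∣ charDegree (χ : G → ℂ)} =
      ({χ : IrrCharacter G | χ ∈ principalBlock M G ∧ ¬ p ∣ charDegree (χ : G → ℂ)}).ncard :=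
    (Nat.card_coe_set_eq _)
  rw [h1] at h6
  have h2 : (insert χ {χ : IrrCharacter G | χ ∈ principalBlock M G ∧ ¬ p ∣ charDegree (χ : G → ℂ)}) ⊆
      principalBlock M G := by
    intro ψ hψ
    rcases hψ with rfl | hψ
    · exact hχ
    · exact hψ.1
  have h3 := Set.ncard_le_ncard h2 (Set.toFinite _)
  rw [Set.ncard_insert_of_notMem (fun h => h.2 hd) (Set.toFinite _)] at h3
  have h4 : Nat.card (principalBlock M G) = (principalBlock M G).ncard := Nat.card_coe_set_eq _
  rw [h4]
  omega

/-- **Criterion (H).** A character of degree divisible by `p` in the principal block of a normal subgroup. -/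
theorem seven_of_normal_height (hM : IsPModular p M) (hp2 : p ≠ 2) (hG : p ^ 2 ∣ Nat.card G)
    (K : Subgroup G) [hK : K.Normal] {θ : IrrCharacter K}
    (hθ : θ ∈ principalBlock M K) (hd : p ∣ charDegree (θ : K → ℂ)) : 7 ≤ Nat.card (principalBlock M G) := by
  classical
  have : Fact p.Prime := ⟨hM.1⟩
  have := Fintype.ofFinite K
  have := Fintype.ofFinite G
  obtain ⟨P⟩ : Nonempty (Sylow p G) := inferInstance
  obtain ⟨χ, hχ, hover⟩ := H656.OverPrincipal.exists_over hM K P
    (by rw [Subgroup.normalizer_eq_top]; exact le_top) θ hθ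
  refine seven_of_height hM hp2 hG hχ ((hd.trans ?_))
  exact (S0887.result K χ χ.2 θ θ.2 hover _ _ (irr_one_eq_charDegree χ.2) (irr_one_eq_charDegree θ.2)).1

end Cfsg.Agent.H80.K6
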