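import Cfsg.Agent.H61.K6.Base
import Cfsg.Agent.H61.K6.CritD
import Cfsg.Agent.H80.K6.Eps
import Cfsg.Agent.H80.K6.Height
import Cfsg.Agent.H55.Pb.EpsMap
import Cfsg.Agent.H617.Pb.Bridge
import Cfsg.Agent.H426.KB.C1
import Cfsg.Agent.H590.RankOne
import Cfsg.Agent.H296.KB.Rank
import Cfsg.Agent.Blocks.UniqueBlock

/-!
# S4876: further criteria for the rows (helper80)

* `EpsGe p x n` : the orbit weight of the `p`-element `x` (number of `C_G(x)`-orbits on the Brauer characters of
  `B₀(C_X(x))`) is at least `n` in every situation; `EpsGe.wtGe : EpsGe p x n → WtGe p x n`;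
  - `epsGe_one`, `epsGe_two` (no normal `p`-complement in `C_X(x)`), `epsGe_wt`;
  - `epsGe_orders` : orders of `p`-regular elements of `C_X(x)`, minus the number of irreducible characters of
    `C_X(x)` outside the principal block; `epsGe_quot` : the same for a quotient of `C_X(x)`;
  - `epsGe_constrained` : `C_X(x)` has a normal `p`-subgroup `Q` with `C(Q) ≤ Q`;
* `KRow.of_two` : **two-case criterion**: `7 ≤ k(B₀(X))` and orbit weights `≥ 4` of nontrivial `p`-elements;
* `KRow.of_height` : a character of degree divisible by `p` in `B₀(X)`;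
* `six_le_rank_add` : `l(B₀(Q)) ≥ 6 - #` classes of nontrivial `p`-elements with `p`-nilpotent centralizers.
-/

set_option autoImplicit false

open Cfsg Subgroup

namespace Cfsg.Agent.H80.K6

open Cfsg.Agent.H61.K6 Cfsg.Agent.H617.Pb Cfsg.Agent.H634

universe u v w

/-- The orbit weight of the `p`-element `x` is at least `n`. -/
def EpsGe.{a, b} (p : ℕ) {X : Type b} [Group X] (x : X) (n : ℕ) : Prop :=
  ∀ (M : Ideal AlgInt) (G : Type a) [Group G] [Finite G] (K : Subgroup G) (f : X ≃* K), Sit p M G K X →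
    n ≤ eps p M (K ⊓ centralizer {((f x : K) : G)}) (⊤ ⊓ centralizer {((f x : K) : G)})

theorem EpsGe.mono {p m n : ℕ} {X : Type v} [Group X] {x : X} (h : EpsGe.{u, v} p x n) (hmn : m ≤ n) :
    EpsGe.{u, v} p x m :=
  fun M G _ _ K f hS => hmn.trans (h M G K f hS)

theorem EpsGe.congr {p n : ℕ} {X : Type v} {Y : Type w} [Group X] [Group Y] (e : X ≃* Y) {x : X}
    (h : EpsGe.{u, v} p x n) : EpsGe.{u, w} p (e x) n := by
  intro M G _ _ K f hS
  have := h M G K (e.trans f) (hS.congr e.symm)
  exact this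

theorem norm_inf {G : Type u} [Group G] (K : Subgroup G) [hK : K.Normal] (z : G) :
    ∀ c ∈ (⊤ : Subgroup G) ⊓ centralizer {z}, ∀ x ∈ K ⊓ centralizer {z}, c * x * c⁻¹ ∈ K ⊓ centralizer {z} := by
  intro c hc x hx
  exact Subgroup.mem_inf.2 ⟨hK.conj_mem x (Subgroup.mem_inf.1 hx).1 c,
    (centralizer ({z} : Set G)).mul_mem ((centralizer ({z} : Set G)).mul_mem (Subgroup.mem_inf.1 hc).2
      (Subgroup.mem_inf.1 hx).2) ((centralizer ({z} : Set G)).inv_mem (Subgroup.mem_inf.1 hc).2)⟩

/-- `eps` for the centralizer is a lower bound for the rank -/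
theorem EpsGe.wtGe {p n : ℕ} {X : Type v} [Group X] {x : X} (h : EpsGe.{u, v} p x n) : WtGe.{u, v} p x n := by
  intro M G _ _ K f hS
  have : Fact p.Prime := ⟨hS.prime⟩
  have hK := hS.normal
  set z : G := ((f x : K) : G) with hz
  refine (h M G K f hS).trans ?_
  have h1 : K ⊓ centralizer ({z} : Set G) ≤ centralizer ({z} : Set G) := inf_le_right
  let N : Subgroup ↥(centralizer ({z} : Set G)) := (K ⊓ centralizer ({z} : Set G)).subgroupOf (centralizer {z})
  have hN : N.Normal := by
    refine ⟨fun y hy g => ?_⟩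
    rw [mem_subgroupOf] at hy ⊢
    exact ⟨hK.conj_mem _ hy.1 g, (g * y * g⁻¹).2⟩
  refine le_trans ?_ (eps_le_rank hS.modular N)
  let F : ↥(⊤ : Subgroup ↥(centralizer ({z} : Set G))) →* G :=
    (centralizer ({z} : Set G)).subtype.comp (⊤ : Subgroup ↥(centralizer ({z} : Set G))).subtype
  have h2 := H55.Pb.eps_map hS.modular N ⊤ le_top (fun c _ x hx => hN.conj_mem x hx c) F
  have h3 : (N.subgroupOf ⊤).map F = K ⊓ centralizer ({z} : Set G) := by
    ext y
    constructor
    · rintro ⟨a, ha, rfl⟩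
      have h4 := mem_subgroupOf.1 (mem_subgroupOf.1 ha)
      exact h4
    · intro hy
      exact ⟨⟨⟨y, hy.2⟩, trivial⟩, mem_subgroupOf.2 (mem_subgroupOf.2 hy), rfl⟩
  have h4 : F.range = ⊤ ⊓ centralizer ({z} : Set G) := by
    ext y
    constructor
    · rintro ⟨a, rfl⟩
      exact ⟨trivial, a.1.2⟩
    · intro hy
      exact ⟨⟨⟨y, hy.2⟩, trivial⟩, rfl⟩
  rw [h3, h4] at h2
  exact h2

/-- `C_X(x) ≃ C_K(f x)` -/
theorem exists_cent_equiv {X : Type v} [Group X] {G : Type u} [Group G] {K : Subgroup G} (f : X ≃* K) (x : X) :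
    ∃ e : ↥(centralizer ({x} : Set X)) ≃* ↥(K ⊓ centralizer ({((f x : K) : G)} : Set G)),
      ∀ y, ((e y : ↥(K ⊓ centralizer ({((f x : K) : G)} : Set G))) : G) = ((f (y : X) : K) : G) := by
  let g : ↥(centralizer ({x} : Set X)) →* ↥(K ⊓ centralizer ({((f x : K) : G)} : Set G)) :=
    { toFun := fun c => ⟨((f c : K) : G), Subgroup.mem_inf.2 ⟨(f (c : X)).2, mem_centralizer_singleton_iff.2 (by
        have h1 := mem_centralizer_singleton_iff.1 c.2
        have h2 := congrArg (fun y => ((f y : K) : G)) h1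
        simpa using h2)⟩⟩
      map_one' := by
        apply Subtype.ext
        simp
      map_mul' := by
        intro a b
        apply Subtype.ext
        simp }
  have hg : Function.Bijective g := by
    constructor
    · intro a b hab
      have h3 : (g a : G) = (g b : G) := congrArg Subtype.val hab
      exact Subtype.ext (f.injective (Subtype.ext h3))
    · rintro ⟨y, hy⟩
      obtain ⟨hyK, hyc⟩ := Subgroup.mem_inf.1 hy
      obtain ⟨a, ha⟩ := f.surjective ⟨y, hyK⟩
      refine ⟨⟨a, ?_⟩, ?_⟩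
      · rw [mem_centralizer_singleton_iff] at hyc ⊢
        apply f.injective
        apply Subtype.ext
        rw [map_mul, map_mul]
        rw [Subgroup.coe_mul, Subgroup.coe_mul, ha]
        exact hyc
      · apply Subtype.ext
        show ((f a : K) : G) = y
        rw [ha]
  exact ⟨MulEquiv.ofBijective g hg, fun y => rfl⟩

theorem not_compl_equiv {p : ℕ} [Fact p.Prime] {A : Type u} {B : Type v} [Group A] [Group B] [Finite A] (e : A ≃* B)
    (h : ¬ HasNormalPComplement p A) : ¬ HasNormalPComplement p B := fun hB =>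
  h (by
    have : Finite B := Finite.of_equiv _ e.toEquiv
    exact ZJ.hasNormalPComplement_of_injective e.toMonoidHom e.injective hB)

theorem epsGe_one {p : ℕ} {X : Type v} [Group X] (x : X) : EpsGe.{u, v} p x 1 := by
  intro M G _ _ K f hS
  have : Fact p.Prime := ⟨hS.prime⟩
  have hK := hS.normal
  exact H272.Pb.eps_pos hS.modular _ _ (norm_inf K _)

theorem epsGe_two {p : ℕ} [Fact p.Prime] {X : Type v} [Group X] {x : X}
    (hx : ¬ HasNormalPComplement p ↥(centralizer ({x} : Set X))) : EpsGe.{u, v} p x 2 := by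
  intro M G _ _ K f hS
  have hK := hS.normal
  have : Finite X := Finite.of_equiv _ f.symm.toEquiv
  obtain ⟨e, -⟩ := exists_cent_equiv f x
  exact two_le_eps_of_not hS.modular _ _ (norm_inf K _) (not_compl_equiv e hx)

theorem epsGe_wt {p : ℕ} [Fact p.Prime] {X : Type v} [Group X] (x : X) : EpsGe.{u, v} p x (wt p x) := by
  unfold wt
  split_ifs with h
  · exact epsGe_one x
  · exact epsGe_two h

/-- an explicit element `h` of the centralizer of `x` which normalizes but does not centralize `⟨v⟩`, `v` of order `p` -/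
theorem epsGe_two_of {p : ℕ} [Fact p.Prime] {X : Type v} [Group X] {x v h : X} (hv : v * x = x * v)
    (hh : h * x = x * h) (hvp : orderOf v = p) (k : ℕ) (hk : h * v * h⁻¹ = v ^ k) (hk1 : v ^ k ≠ v) :
    EpsGe.{u, v} p x 2 := by
  intro M G _ _ K f hS
  have hK := hS.normal
  have hc : ∀ y : X, y * x = x * y → ((f y : K) : G) ∈ K ⊓ centralizer ({((f x : K) : G)} : Set G) := by
    intro y hy
    refine Subgroup.mem_inf.2 ⟨(f y).2, mem_centralizer_singleton_iff.2 ?_⟩
    have h2 := congrArg (fun y => ((f y : K) : G)) hy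
    simpa using h2
  refine H272.Pb.two_le_eps hS.modular _ _ (norm_inf K _) ((f v : K) : G) ((f h : K) : G) (hc v hv) (hc h hh)
    (by rw [Subgroup.orderOf_coe, MulEquiv.orderOf_eq, hvp]) k ?_ ?_
  · have h2 := congrArg (fun y => ((f y : K) : G)) hk
    simpa using h2
  · intro h2
    apply hk1
    apply f.injective
    apply Subtype.ext
    rw [map_pow]
    simpa using h2

/-- transport of "outside the principal block" -/
theorem card_not_mem_le {A : Type u} {B : Type v} [Group A] [Group B] [Finite A] {M : Ideal AlgInt}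
    (e : A ≃* B) : Nat.card {θ : IrrCharacter B // θ ∉ principalBlock M B} ≤
      Nat.card {θ : IrrCharacter A // θ ∉ principalBlock M A} := by
  have : Finite (IrrCharacter A) := Characters.Core.finite_irr
  refine Nat.card_le_card_of_injective (fun θ => ⟨tw e θ.1, fun h => θ.2 ?_⟩) ?_
  · have h1 := tw_mem e.symm h
    have h2 : tw e.symm (tw e θ.1) = θ.1 := by
      apply Subtype.ext
      funext y
      rw [tw_apply, tw_apply, e.apply_symm_apply]
    rwa [h2] at h1
  · intro a b hab
    apply Subtype.ext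
    apply Subtype.ext
    funext y
    have h1 := congrArg (fun t : {θ : IrrCharacter A // θ ∉ principalBlock M A} => (t.1 : A → ℂ) (e.symm y)) hab
    simp only [tw_apply, e.apply_symm_apply] at h1
    exact h1

/-- **Orders in the centralizer.** -/
theorem epsGe_orders {p : ℕ} {X : Type v} [Group X] [Finite X] {x : X} (O : Finset ℕ)
    (hO : ∀ m ∈ O, ¬ p ∣ m ∧ ∃ y : X, y * x = x * y ∧ orderOf y = m) {n d : ℕ}
    (hd : ∀ M : Ideal AlgInt, IsPModular p M →
      Nat.card {θ : IrrCharacter ↥(centralizer ({x} : Set X)) // θ ∉ principalBlock M ↥(centralizer ({x} : Set X))} ≤ d)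
    (hn : n + d ≤ O.card) : EpsGe.{u, v} p x n := by
  intro M G _ _ K f hS
  have : Fact p.Prime := ⟨hS.prime⟩
  have hK := hS.normal
  obtain ⟨e, he⟩ := exists_cent_equiv f x
  have h1 := card_orders_le (p := p) (M := M) (K ⊓ centralizer ({((f x : K) : G)} : Set G))
    (⊤ ⊓ centralizer ({((f x : K) : G)} : Set G)) (norm_inf K _) O (by
      intro m hm
      refine ⟨(hO m hm).1, ?_⟩
      obtain ⟨y, hy, hm'⟩ := (hO m hm).2
      refine ⟨e ⟨y, mem_centralizer_singleton_iff.2 hy⟩, ?_⟩
      rw [MulEquiv.orderOf_eq, Subgroup.orderOf_mk, hm'])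
  have h2 := card_not_mem_le (M := M) e
  have h3 := hd M hS.modular
  omega

/-- all irreducible characters are in the principal block -/
theorem card_not_mem_constrained {p : ℕ} {C : Type v} [Group C] [Finite C] (Q : Subgroup C) [Q.Normal]
    (hQ : IsPGroup p Q) (hc : centralizer (Q : Set C) ≤ Q) {M : Ideal AlgInt} (hM : IsPModular p M) :
    Nat.card {θ : IrrCharacter C // θ ∉ principalBlock M C} = 0 := by
  have : IsEmpty {θ : IrrCharacter C // θ ∉ principalBlock M C} := by
    refine ⟨fun θ => θ.2 ?_⟩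
    exact Cfsg.Agent.Blocks.UniqueBlock.sameBlock_of_centralizer_le hM Q hQ hc
      (⟨_, Cfsg.Agent.Characters.Core.isIrr_one⟩ : IrrCharacter C) θ.1
  exact Nat.card_of_isEmpty

/-- **Constrained centralizers**: `C_X(x)` has a normal `p`-subgroup `Q` containing its centralizer, and contains
`p`-regular elements of all orders in `O`. -/
theorem epsGe_constrained {p : ℕ} {X : Type v} [Group X] [Finite X] {x : X}
    (Q : Subgroup ↥(centralizer ({x} : Set X))) [Q.Normal] (hQ : IsPGroup p Q) (hc : centralizer (Q : Set _) ≤ Q)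
    (O : Finset ℕ) (hO : ∀ m ∈ O, ¬ p ∣ m ∧ ∃ y : X, y * x = x * y ∧ orderOf y = m) : EpsGe.{u, v} p x O.card :=
  epsGe_orders O hO (d := 0) (fun M hM => (card_not_mem_constrained Q hQ hc hM).le) le_rfl

/-- orders in a quotient, abstract form -/
theorem card_orders_quot_le {p : ℕ} [Fact p.Prime] {M : Ideal AlgInt} (hM : IsPModular p M) {G : Type u} [Group G]
    [Finite G] (N C : Subgroup G) (hNC : N ≤ C) (hn : ∀ c ∈ C, ∀ x ∈ N, c * x * c⁻¹ ∈ N) {Q : Type w} [Group Q]
    [Finite Q] (ψ : ↥N →* Q) (hψ : Function.Surjective ψ)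
    (hk : ∀ (c : G) (hc : c ∈ C) (a : G) (ha : a ∈ N), ψ ⟨a, ha⟩ = 1 → ψ ⟨c * a * c⁻¹, hn c hc a ha⟩ = 1)
    (O : Finset ℕ) (hO : ∀ m ∈ O, ¬ p ∣ m ∧ ∃ y : Q, orderOf y = m) :
    O.card ≤ eps p M N C + Nat.card {θ : IrrCharacter Q // θ ∉ principalBlock M Q} := by
  classical
  let R : Subgroup ↥C := ψ.ker.map (Subgroup.inclusion hNC)
  have hRn : R.Normal := by
    refine ⟨?_⟩
    rintro _ ⟨a, ha, rfl⟩ c
    exact ⟨⟨(c : G) * a * (c : G)⁻¹, hn c c.2 a a.2⟩, MonoidHom.mem_ker.2 (hk c c.2 a a.2 (MonoidHom.mem_ker.1 ha)), rfl⟩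
  let F : ↥C →* (↥C ⧸ R) := QuotientGroup.mk' R
  have h1 := H55.Pb.eps_map hM N C hNC hn F
  -- the image of `N` is isomorphic to `Q`
  set N' : Subgroup (↥C ⧸ R) := (N.subgroupOf C).map F with hN'
  let g : ↥N →* ↥N' := (F.comp (Subgroup.inclusion hNC)).codRestrict N' fun y =>
    ⟨Subgroup.inclusion hNC y, mem_subgroupOf.2 y.2, rfl⟩
  have hg : Function.Surjective g := by
    rintro ⟨_, y, hy, rfl⟩
    exact ⟨⟨y, mem_subgroupOf.1 hy⟩, rfl⟩
  have hgk : g.ker = ψ.ker := by
    ext y
    rw [MonoidHom.mem_ker, MonoidHom.mem_ker]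
    constructor
    · intro h
      have h2 : F (Subgroup.inclusion hNC y) = 1 := congrArg Subtype.val h
      obtain ⟨a, ha, hay⟩ := (QuotientGroup.eq_one_iff _).1 h2
      have h3 : a = y := Subgroup.inclusion_injective hNC hay
      rw [← h3]
      exact ha
    · intro h
      apply Subtype.ext
      exact (QuotientGroup.eq_one_iff _).2 ⟨y, h, rfl⟩
  let E : Q ≃* ↥N' := (QuotientGroup.quotientKerEquivOfSurjective ψ hψ).symm.trans
    ((QuotientGroup.quotientMulEquivOfEq hgk.symm).trans (QuotientGroup.quotientKerEquivOfSurjective g hg))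
  have h2 := card_orders_le (p := p) (M := M) N' F.range (by
      rintro _ ⟨c, rfl⟩ _ ⟨y, hy, rfl⟩
      refine ⟨c * y * c⁻¹, ?_, by simp only [map_mul, map_inv]⟩
      exact mem_subgroupOf.2 (hn c c.2 y (mem_subgroupOf.1 hy))) O (by
      intro m hm
      refine ⟨(hO m hm).1, ?_⟩
      obtain ⟨y, hm'⟩ := (hO m hm).2
      exact ⟨E y, by rw [MulEquiv.orderOf_eq, hm']⟩)
  have h3 := card_not_mem_le (M := M) E
  omega

/-- **Orders in a quotient of the centralizer** (the kernel is invariant under the automorphisms of `X` fixing `x`; for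
instance the subgroup generated by `x`). -/
theorem epsGe_quot {p : ℕ} {X : Type v} [Group X] [Finite X] {x : X} {Q : Type w} [Group Q] [Finite Q]
    (φ : ↥(centralizer ({x} : Set X)) →* Q) (hφ : Function.Surjective φ)
    (hker : ∀ σ : X ≃* X, σ x = x → ∀ y y' : ↥(centralizer ({x} : Set X)), (y' : X) = σ y → φ y = 1 → φ y' = 1)
    (O : Finset ℕ) (hO : ∀ m ∈ O, ¬ p ∣ m ∧ ∃ y : Q, orderOf y = m) {n d : ℕ}
    (hd : ∀ M : Ideal AlgInt, IsPModular p M → Nat.card {θ : IrrCharacter Q // θ ∉ principalBlock M Q} ≤ d)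
    (hn : n + d ≤ O.card) : EpsGe.{u, v} p x n := by
  classical
  intro M G _ _ K f hS
  have : Fact p.Prime := ⟨hS.prime⟩
  have hK := hS.normal
  obtain ⟨e, he⟩ := exists_cent_equiv f x
  have h1 := card_orders_quot_le hS.modular (K ⊓ centralizer ({((f x : K) : G)} : Set G))
    (⊤ ⊓ centralizer ({((f x : K) : G)} : Set G))
    (fun y hy => Subgroup.mem_inf.2 ⟨trivial, (Subgroup.mem_inf.1 hy).2⟩) (norm_inf K _) (φ.comp e.symm.toMonoidHom)
    (hφ.comp e.symm.surjective) (by
      intro c hc a ha h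
      -- conjugation by `c` is an automorphism of `X` fixing `x`
      let σ : X ≃* X := (f.trans (MulAut.conjNormal (c : G) : MulAut K)).trans f.symm
      have hσx : σ x = x := by
        have h1 : (MulAut.conjNormal (c : G) : MulAut K) (f x) = f x := by
          apply Subtype.ext
          rw [MulAut.conjNormal_apply]
          have h2 : c * ((f x : K) : G) = ((f x : K) : G) * c :=
            mem_centralizer_singleton_iff.1 (Subgroup.mem_inf.1 hc).2
          rw [h2, mul_inv_cancel_right]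
        change f.symm ((MulAut.conjNormal (c : G) : MulAut K) (f x)) = x
        rw [h1, f.symm_apply_apply]
      refine hker σ hσx (e.symm ⟨a, ha⟩) (e.symm ⟨c * a * c⁻¹, norm_inf K _ c hc a ha⟩) ?_ h
      have h4 := he (e.symm ⟨c * a * c⁻¹, norm_inf K _ c hc a ha⟩)
      rw [e.apply_symm_apply] at h4
      have h5 := he (e.symm ⟨a, ha⟩)
      rw [e.apply_symm_apply] at h5
      apply f.injective
      apply Subtype.ext
      rw [← h4]
      have h6 : f (σ (e.symm ⟨a, ha⟩ : X)) = (MulAut.conjNormal (c : G) : MulAut K) (f (e.symm ⟨a, ha⟩ : X)) := by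
        change f (f.symm _) = _
        rw [f.apply_symm_apply]
        rfl
      rw [h6, MulAut.conjNormal_apply, ← h5]) O hO
  have h4 := hd M hS.modular
  omega

/-! ### The two-case criterion -/

theorem card_add_orb_le {p : ℕ} [Fact p.Prime] {M : Ideal AlgInt} (hM : IsPModular p M) {G : Type u} [Group G]
    [Finite G] (K : Subgroup G) [K.Normal] (hcop : ¬ p ∣ K.index) :
    ∃ f : ℕ, 1 ≤ f ∧ f + orb M K ⊤ ≤ Nat.card (principalBlock M G) + 1 ∧
      (f = 1 → Nat.card (principalBlock M ↥K) ≤ Nat.card (principalBlock M G)) := by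
  classical
  obtain ⟨P⟩ : Nonempty (Sylow p K) := inferInstance
  have hn := (H96.KB.Hull.hull_eq K hcop P).2
  have h1 := H546.KB.ker_add_kap_le K hM hcop
  have h2 := H261.KB.Ker.ker_eq K hM hcop
  have h3 := H426.KB.kB_le K hM hcop
  have h4 := card_quot_le_mul K hM hcop ⊤ (fun _ _ => trivial) ⊤ (by rw [top_sup_eq]) ∅ (by simp)
  rw [Subgroup.index_top, one_mul, Finset.card_empty, Nat.sub_zero, Nat.add_zero] at h4
  have h5 : 1 ≤ Nat.card (ConjClasses (G ⧸ H508.KB.hull p K)) := by
    have : Finite (ConjClasses (G ⧸ H508.KB.hull p K)) := Finite.of_surjective _ ConjClasses.mk_surjective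
    have : Nonempty (ConjClasses (G ⧸ H508.KB.hull p K)) := ⟨ConjClasses.mk 1⟩
    exact Nat.card_pos
  refine ⟨H508.KB.ker M K, by rw [h2]; exact h5, ?_, ?_⟩
  · unfold H508.KB.kB at h1
    omega
  · intro hf
    rw [h2] at hf
    -- one class: the quotient is trivial
    have : Finite (ConjClasses (G ⧸ H508.KB.hull p K)) := Finite.of_surjective _ ConjClasses.mk_surjective
    have hsub : Subsingleton (ConjClasses (G ⧸ H508.KB.hull p K)) := (Nat.card_eq_one_iff_unique.1 hf).1
    have hq : Subsingleton (G ⧸ H508.KB.hull p K) := by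
      refine ⟨fun a b => ?_⟩
      have ha : ∀ a : G ⧸ H508.KB.hull p K, a = 1 := fun a => by
        have h6 : ConjClasses.mk a = ConjClasses.mk 1 := Subsingleton.elim _ _
        exact isConj_one_left.1 (ConjClasses.mk_eq_mk_iff_isConj.1 h6)
      rw [ha a, ha b]
    have hidx : (H508.KB.hull p K).index = 1 := by
      rw [Subgroup.index_eq_card]
      exact Nat.card_eq_one_iff_unique.2 ⟨hq, ⟨1⟩⟩
    rw [hidx, one_mul] at h3
    unfold H508.KB.kB at h1 h3
    rw [h2, hf] at h1
    omega

/-- **Two-case criterion.** `7 ≤ k(B₀(X))`, and nontrivial `p`-elements, pairwise not conjugate under `Aut X`, of total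
orbit weight at least 4. -/
theorem KRow.of_two {p : ℕ} {X : Type v} [Group X] [Finite X] (hX : ¬ HasNormalPComplement p X)
    (h7 : ∀ M : Ideal AlgInt, IsPModular p M → 7 ≤ Nat.card (principalBlock M X))
    (T : Finset X) (hT : ∀ x ∈ T, El p x)
    (hinj : ∀ x ∈ T, ∀ y ∈ T, ∀ σ : X ≃* X, σ x = y → x = y) (wt : X → ℕ)
    (hw : ∀ x ∈ T, EpsGe.{u, v} p x (wt x)) (hn : 4 ≤ ∑ x ∈ T, wt x) : KRow.{u, v} p X := by
  classical
  intro M G _ _ K hS
  have : Fact p.Prime := ⟨hS.prime⟩
  have hK := hS.normal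
  obtain ⟨f⟩ := hS.iso
  obtain ⟨a, ha1, ha, ha'⟩ := card_add_orb_le hS.modular K hS.ndvd
  by_cases hf : a = 1
  · refine le_trans ?_ (ha' hf)
    refine (h7 M hS.modular).trans ?_
    have : Finite (IrrCharacter ↥K) := Characters.Core.finite_irr
    exact Nat.card_le_card_of_injective
      (fun χ : principalBlock M X => (⟨tw f.symm χ.1, tw_mem f.symm χ.2⟩ : principalBlock M ↥K)) (by
        intro χ ψ h
        apply Subtype.ext
        apply Subtype.ext
        funext y
        have h1 := congrArg (fun t : principalBlock M ↥K => (t.1 : ↥K → ℂ) (f y)) h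
        simp only [tw_apply, f.symm_apply_apply] at h1
        exact h1)
  · -- the orbits
    have hX1 : EpsGe.{u, v} p (1 : X) 2 := by
      refine epsGe_two fun h => hX ?_
      let g : X →* ↥(Subgroup.centralizer ({(1 : X)} : Set X)) :=
        { toFun := fun c => ⟨c, by rw [Subgroup.mem_centralizer_singleton_iff, mul_one, one_mul]⟩
          map_one' := rfl
          map_mul' := fun _ _ => rfl }
      exact ZJ.hasNormalPComplement_of_injective g (fun a b hab => congrArg Subtype.val hab) h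
    have h1T : (1 : X) ∉ T := fun h => (hT 1 h).2 rfl
    have hfi : Function.Injective fun x : X => ((f x : K) : G) := fun a b h => f.injective (Subtype.ext h)
    let T' : Finset X := insert 1 T
    have h1 := H208.Pb.sum_le_orb hS.modular K ⊤ le_top (fun c _ x hx => hK.conj_mem x hx c)
      (ι := Fin T'.card) (fun i => ((f (T'.equivFin.symm i : X) : K) : G)) (by
        intro i
        refine ⟨(f _).2, ?_⟩
        have h2 := (T'.equivFin.symm i).2
        rcases Finset.mem_insert.1 h2 with h3 | h3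
        · refine ⟨0, ?_⟩
          rw [Subgroup.orderOf_coe, MulEquiv.orderOf_eq, h3, orderOf_one, pow_zero]
        · obtain ⟨k, hk⟩ := (hT _ h3).1
          exact ⟨k, by rw [Subgroup.orderOf_coe, MulEquiv.orderOf_eq, hk]⟩) (by
        intro i j h
        obtain ⟨c, -, hc⟩ := h
        obtain ⟨σ, hσ⟩ := exists_aut hK f (isConj_iff.2 ⟨c, hc⟩)
        have hi := (T'.equivFin.symm i).2
        have hj := (T'.equivFin.symm j).2
        have h4 : (T'.equivFin.symm i : X) = (T'.equivFin.symm j : X) := by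
          rcases Finset.mem_insert.1 hi with h3 | h3
          · rw [← hσ, h3, map_one]
          rcases Finset.mem_insert.1 hj with h5 | h5
          · rw [h5] at hσ
            rw [h5]
            exact (map_eq_one_iff σ σ.injective).1 hσ
          · exact hinj _ h3 _ h5 σ hσ
        exact T'.equivFin.symm.injective (Subtype.ext h4))
    have h2 : ∑ i : Fin T'.card, eps p M (K ⊓ centralizer {((f (T'.equivFin.symm i : X) : K) : G)})
        (⊤ ⊓ centralizer {((f (T'.equivFin.symm i : X) : K) : G)}) =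
        ∑ x ∈ T', eps p M (K ⊓ centralizer {((f x : K) : G)}) (⊤ ⊓ centralizer {((f x : K) : G)}) := by
      rw [← Finset.sum_coe_sort T']
      exact Equiv.sum_comp T'.equivFin.symm (fun x : T' =>
        eps p M (K ⊓ centralizer {((f (x : X) : K) : G)}) (⊤ ⊓ centralizer {((f (x : X) : K) : G)}))
    rw [h2, Finset.sum_insert h1T] at h1
    have h3 := hX1 M G K f hS
    have h4 : ∑ x ∈ T, wt x ≤ ∑ x ∈ T, eps p M (K ⊓ centralizer {((f x : K) : G)})
        (⊤ ⊓ centralizer {((f x : K) : G)}) := Finset.sum_le_sum fun x hx => hw x hx M G K f hS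
    omega

/-- **Criterion H for a row.** -/
theorem KRow.of_height {p : ℕ} (hp2 : p ≠ 2) {X : Type v} [Group X] [Finite X] (hd : p ^ 2 ∣ Nat.card X)
    (h : ∀ M : Ideal AlgInt, IsPModular p M → ∃ χ ∈ principalBlock M X, p ∣ charDegree (χ : X → ℂ)) :
    KRow.{u, v} p X := by
  intro M G _ _ K hS
  have : Fact p.Prime := ⟨hS.prime⟩
  have hK := hS.normal
  obtain ⟨f⟩ := hS.iso
  obtain ⟨χ, hχ, hχd⟩ := h M hS.modular
  refine seven_of_normal_height hS.modular hp2 ?_ K (tw_mem f.symm hχ) ?_
  · rw [← K.card_mul_index]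
    exact (hd.trans (by rw [Nat.card_congr f.toEquiv])).mul_right _
  · have h1 : charDegree (tw f.symm χ : ↥K → ℂ) = charDegree (χ : X → ℂ) := by
      unfold charDegree
      rw [tw_apply, map_one]
    rw [h1]
    exact hχd

/-! ### Lower bounds for `l(B₀)` from `k₀ ≥ 6` -/

theorem rank_of_compl {p : ℕ} {M : Ideal AlgInt} (hM : IsPModular p M) {H : Type u} [Group H] [Finite H]
    (h : HasNormalPComplement p H) : blockRank p (principalBlock M H) = 1 := by
  have : Fact p.Prime := ⟨hM.1⟩
  refine H590.RankOne.blockRank_eq_one hM ?_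
  obtain ⟨P, N, hN, hc⟩ := h
  have h1 : N.index = Nat.card (P : Subgroup H) := hc.symm.index_eq_card
  obtain ⟨n, hn⟩ := IsPGroup.iff_card.1 P.isPGroup'
  have h2 : ¬ p ∣ Nat.card N := by
    rw [← hc.index_eq_card]
    exact P.not_dvd_index
  have h3 : N ≤ pPrimeCore p H :=
    le_sSup ⟨hN, ((Nat.Prime.coprime_iff_not_dvd hM.1).2 h2).symm⟩
  have h4 := Subgroup.index_dvd_of_le h3
  rw [h1, hn] at h4
  obtain ⟨k, -, hk⟩ := (Nat.dvd_prime_pow hM.1).1 h4
  exact ⟨k, hk⟩

/-- **`l(B₀(Q)) ≥ 6 - |T|`**: `p` odd, `p² ∣ |Q|`, every nontrivial `p`-element of `Q` is conjugate to a member of `T`,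
and their centralizers are `p`-nilpotent. -/
theorem six_le_rank_add {p : ℕ} (hp2 : p ≠ 2) {M : Ideal AlgInt} (hM : IsPModular p M) {Q : Type u} [Group Q]
    [Finite Q] (hd : p ^ 2 ∣ Nat.card Q) (T : Finset Q)
    (hcov : ∀ g : Q, El p g → ∃ x ∈ T, IsConj g x)
    (hnil : ∀ x ∈ T, HasNormalPComplement p ↥(centralizer ({x} : Set Q))) :
    6 ≤ blockRank p (principalBlock M Q) + T.card := by
  classical
  have : Fact p.Prime := ⟨hM.1⟩
  have h6 := H774.K0.six_le_card hp2 hM hd
  have hfin : Finite (IrrCharacter Q) := Characters.Core.finite_irr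
  have h6' : 6 ≤ Nat.card (principalBlock M Q) := by
    refine h6.trans ?_
    exact Nat.card_le_card_of_injective
      (fun χ : {χ : IrrCharacter Q // χ ∈ principalBlock M Q ∧ ¬ p ∣ charDegree (χ : Q → ℂ)} =>
        (⟨χ.1, χ.2.1⟩ : principalBlock M Q)) (fun a b h => Subtype.ext (congrArg (fun t : principalBlock M Q => t.1) h))
  obtain ⟨X, hSX, hX, hXrep⟩ := Cols.exists_reps (p := p) ({1} : Finset Q)
    (by
      intro x hx
      rw [Finset.mem_singleton.1 hx]
      exact ⟨0, by simp⟩)
    (by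
      intro x hx y hy _
      rw [Finset.mem_singleton.1 hx, Finset.mem_singleton.1 hy])
  rw [Cols.card_principal_eq hM X hX hXrep] at h6'
  have h1X : (1 : Q) ∈ X := hSX (Finset.mem_singleton_self 1)
  rw [← Finset.add_sum_erase _ _ h1X, TwoA.rank_one_eq hM] at h6'
  -- the other representatives
  have hne : ∀ x ∈ X.erase 1, El p x := fun x hx =>
    ⟨hX x (Finset.mem_of_mem_erase hx), Finset.ne_of_mem_erase hx⟩
  have h2 : ∀ x ∈ X.erase 1, blockRank p (principalBlock M ↥(centralizer ({x} : Set Q))) = 1 := by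
    intro x hx
    obtain ⟨y, hy, hxy⟩ := hcov x (hne x hx)
    refine rank_of_compl hM ?_
    obtain ⟨c, hc⟩ := isConj_iff.1 hxy
    have e : ↥(centralizer ({x} : Set Q)) ≃* ↥(centralizer ({y} : Set Q)) := by
      rw [← hc]
      refine ((MulAut.conj c).subgroupMap _).trans (MulEquiv.subgroupCongr ?_)
      ext z
      constructor
      · rintro ⟨w, hw, rfl⟩
        have hw' := mem_centralizer_singleton_iff.1 hw
        refine mem_centralizer_singleton_iff.2 ?_
        show (c * w * c⁻¹) * (c * x * c⁻¹) = (c * x * c⁻¹) * (c * w * c⁻¹)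
        have e1 : (c * w * c⁻¹) * (c * x * c⁻¹) = c * (w * x) * c⁻¹ := by group
        have e2 : (c * x * c⁻¹) * (c * w * c⁻¹) = c * (x * w) * c⁻¹ := by group
        rw [e1, e2, hw']
      · intro hz
        have hz' := mem_centralizer_singleton_iff.1 hz
        refine ⟨c⁻¹ * z * c, mem_centralizer_singleton_iff.2 ?_, by
          show c * (c⁻¹ * z * c) * c⁻¹ = z
          group⟩
        have e1 : c⁻¹ * z * c * x = c⁻¹ * (z * (c * x * c⁻¹)) * c := by group
        have e2 : x * (c⁻¹ * z * c) = c⁻¹ * ((c * x * c⁻¹) * z) * c := by group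
        rw [e1, e2, hz']
    exact ZJ.hasNormalPComplement_of_injective e.toMonoidHom e.injective (hnil y hy)
  rw [Finset.sum_congr rfl h2, Finset.sum_const, smul_eq_mul, mul_one] at h6'
  have h3 : (X.erase 1).card ≤ T.card := by
    have hch : ∀ x : Q, ∃ y : Q, x ∈ X.erase 1 → y ∈ T ∧ IsConj x y := by
      intro x
      by_cases hx : x ∈ X.erase 1
      · obtain ⟨y, hy, hxy⟩ := hcov x (hne x hx)
        exact ⟨y, fun _ => ⟨hy, hxy⟩⟩
      · exact ⟨1, fun h => absurd h hx⟩
    choose g hg using hch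
    refine Finset.card_le_card_of_injOn g (fun x hx => (hg x hx).1) ?_
    intro x hx y hy hxy
    have h4 := (hg x hx).2
    have h5 := (hg y hy).2
    rw [← hxy] at h5
    have h6 : IsConj x y := h4.trans h5.symm
    exact (hXrep x (hX x (Finset.mem_of_mem_erase hx))).unique ⟨Finset.mem_of_mem_erase hx, IsConj.refl x⟩
      ⟨Finset.mem_of_mem_erase hy, h6⟩
  omega

end Cfsg.Agent.H80.K6
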