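import Cfsg.Agent.H80.K6.Crit

/-!
# S4876: groups without outer automorphisms, and lower bounds inside `X` (helper80)

* `sit_eq_top` : if all automorphisms of `X` are inner then `K = ⊤` in every situation;
* `KGe.of_complete`, `wtGe_of_complete` : everything may be computed in `X`;
* `rank_le_of_surj` : `l(B₀(Q)) ≤ l(B₀(C))` for quotients;
* `le_card_of_ranks` : `k(B₀(X)) ≥ ∑ l(B₀(C_X(x)))` over `p`-elements pairwise not conjugate in `X`.
-/

set_option autoImplicit false

open Cfsg Subgroup

namespace Cfsg.Agent.H80.K6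

open Cfsg.Agent.H61.K6 Cfsg.Agent.H617.Pb Cfsg.Agent.H634

universe u v w

/-- all automorphisms are inner -/
def Complete' (X : Type v) [Group X] : Prop := ∀ σ : X ≃* X, ∃ g : X, ∀ x : X, σ x = g * x * g⁻¹

theorem sit_eq_top {p : ℕ} {M : Ideal AlgInt} {G : Type u} [Group G] [Finite G] {K : Subgroup G}
    {X : Type v} [Group X] (h : Sit p M G K X) (hX : Complete' X) : K = ⊤ := by
  have hK := h.normal
  obtain ⟨f⟩ := h.iso
  rw [eq_top_iff]
  intro g _
  obtain ⟨a, ha⟩ := hX ((f.trans (MulAut.conjNormal g : MulAut K)).trans f.symm)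
  have h1 : ∀ x : K, g * (x : G) * g⁻¹ = ((f a : K) : G) * x * ((f a : K) : G)⁻¹ := by
    intro x
    have h2 := ha (f.symm x)
    change f.symm ((MulAut.conjNormal g : MulAut K) (f (f.symm x))) = a * f.symm x * a⁻¹ at h2
    rw [f.apply_symm_apply, MulEquiv.symm_apply_eq, map_mul, map_mul, f.apply_symm_apply, map_inv] at h2
    have h3 := congrArg (fun y : K => (y : G)) h2
    simpa using h3
  have h2 : ((f a : K) : G)⁻¹ * g ∈ centralizer (K : Set G) := by
    rw [mem_centralizer_iff]
    intro x hx
    have h3 := h1 ⟨x, hx⟩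
    have h4 : g * x * g⁻¹ = ((f a : K) : G) * x * ((f a : K) : G)⁻¹ := h3
    have h5 : g * x = ((f a : K) : G) * x * ((f a : K) : G)⁻¹ * g := by
      rw [← h4]
      group
    rw [mul_assoc, h5]
    group
  rw [h.cent, Subgroup.mem_bot, inv_mul_eq_one] at h2
  rw [← h2]
  exact (f a).2

/-- `X ≃ G` -/
theorem exists_equiv_of_complete {p : ℕ} {M : Ideal AlgInt} {G : Type u} [Group G] [Finite G] {K : Subgroup G}
    {X : Type v} [Group X] (h : Sit p M G K X) (hX : Complete' X) (f : X ≃* K) :
    ∃ e : X ≃* G, ∀ x, e x = ((f x : K) : G) := by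
  have h1 := sit_eq_top h hX
  subst h1
  exact ⟨f.trans Subgroup.topEquiv, fun x => rfl⟩

theorem blockRank_equiv_le {p : ℕ} {M : Ideal AlgInt} {A : Type u} {B : Type v} [Group A]
    [Group B] [Finite A] [Finite B] (e : A ≃* B) :
    blockRank p (principalBlock M B) ≤ blockRank p (principalBlock M A) := by
  classical
  unfold blockRank
  let L : (B → ℂ) →ₗ[ℂ] (A → ℂ) := LinearMap.funLeft ℂ ℂ e
  have hL : Function.Injective L := LinearMap.funLeft_injective_of_surjective ℂ ℂ e e.surjective
  have h1 : (Submodule.span ℂ ((fun χ : IrrCharacter B => pRegularPart p (χ : B → ℂ)) '' principalBlock M B)).map L ≤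
      Submodule.span ℂ ((fun χ : IrrCharacter A => pRegularPart p (χ : A → ℂ)) '' principalBlock M A) := by
    rw [Submodule.map_span_le]
    rintro _ ⟨χ, hχ, rfl⟩
    refine Submodule.subset_span ⟨tw e χ, tw_mem e hχ, ?_⟩
    funext y
    show pRegularPart p (tw e χ : A → ℂ) y = pRegularPart p (χ : B → ℂ) (e y)
    unfold pRegularPart IsPRegular
    rw [tw_apply, MulEquiv.orderOf_eq]
  have h2 := LinearEquiv.finrank_eq (Submodule.equivMapOfInjective L hL
    (Submodule.span ℂ ((fun χ : IrrCharacter B => pRegularPart p (χ : B → ℂ)) '' principalBlock M B)))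
  rw [h2]
  exact Submodule.finrank_mono h1

theorem blockRank_equiv {p : ℕ} {M : Ideal AlgInt} {A : Type u} {B : Type v} [Group A]
    [Group B] [Finite A] [Finite B] (e : A ≃* B) :
    blockRank p (principalBlock M A) = blockRank p (principalBlock M B) :=
  le_antisymm (blockRank_equiv_le e.symm) (blockRank_equiv_le e)

theorem rank_le_of_surj {p : ℕ} {M : Ideal AlgInt} (hM : IsPModular p M) {C : Type u} {Q : Type v} [Group C]
    [Group Q] [Finite C] [Finite Q] (φ : C →* Q) (hφ : Function.Surjective φ) :
    blockRank p (principalBlock M Q) ≤ blockRank p (principalBlock M C) := by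
  have : Fact p.Prime := ⟨hM.1⟩
  let eQ : ULift.{u} Q ≃* Q := MulEquiv.ulift
  let eC : ULift.{v} C ≃* C := MulEquiv.ulift
  rw [← blockRank_equiv eQ, ← blockRank_equiv eC]
  exact H296.KB.rank_quot_le hM (eQ.symm.toMonoidHom.comp (φ.comp eC.toMonoidHom))
    (eQ.symm.surjective.comp (hφ.comp eC.surjective))

theorem cent_map_equiv {A : Type u} {B : Type v} [Group A] [Group B] (e : A ≃* B) (x : A) :
    Nonempty (↥(centralizer ({x} : Set A)) ≃* ↥(centralizer ({e x} : Set B))) := by
  have h1 : (centralizer ({x} : Set A)).map e.toMonoidHom = centralizer ({e x} : Set B) := by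
    ext y
    constructor
    · rintro ⟨z, hz, rfl⟩
      have hz' := mem_centralizer_singleton_iff.1 hz
      refine mem_centralizer_singleton_iff.2 ?_
      change e z * e x = e x * e z
      rw [← map_mul, ← map_mul, hz']
    · intro hy
      have hy' := mem_centralizer_singleton_iff.1 hy
      refine ⟨e.symm y, mem_centralizer_singleton_iff.2 (e.injective ?_), e.apply_symm_apply y⟩
      rw [map_mul, map_mul, e.apply_symm_apply, hy']
  exact ⟨(e.subgroupMap _).trans (MulEquiv.subgroupCongr h1)⟩

/-- weights may be computed in the complete group `X` -/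
theorem wtGe_of_complete {p n : ℕ} {X : Type v} [Group X] [Finite X] (hX : Complete' X) {x : X}
    (h : ∀ M : Ideal AlgInt, IsPModular p M → n ≤ blockRank p (principalBlock M ↥(centralizer ({x} : Set X)))) :
    WtGe.{u, v} p x n := by
  intro M G _ _ K f hS
  obtain ⟨e, he⟩ := exists_equiv_of_complete hS hX f
  obtain ⟨e'⟩ := cent_map_equiv e x
  rw [← he x]
  rw [← blockRank_equiv e']
  exact h M hS.modular

/-- for complete groups the row is a statement about `X` -/
theorem KGe.of_complete {p n : ℕ} {X : Type v} [Group X] [Finite X] (hX : Complete' X)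
    (h : ∀ M : Ideal AlgInt, IsPModular p M → n ≤ Nat.card (principalBlock M X)) : KGe.{u, v} p n X := by
  intro M G _ _ K hS
  obtain ⟨f⟩ := hS.iso
  obtain ⟨e, he⟩ := exists_equiv_of_complete hS hX f
  refine (h M hS.modular).trans ?_
  have : Finite (IrrCharacter G) := Characters.Core.finite_irr
  exact Nat.card_le_card_of_injective
    (fun χ : principalBlock M X => (⟨tw e.symm χ.1, tw_mem e.symm χ.2⟩ : principalBlock M G)) (by
      intro χ ψ h
      apply Subtype.ext
      apply Subtype.ext
      funext y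
      have h1 := congrArg (fun t : principalBlock M G => (t.1 : G → ℂ) (e y)) h
      simp only [tw_apply, e.symm_apply_apply] at h1
      exact h1)

/-- **Lower bound for `k(B₀(X))`** by nontrivial `p`-elements pairwise not conjugate in `X`. -/
theorem le_card_of_ranks {p : ℕ} {M : Ideal AlgInt} (hM : IsPModular p M) {X : Type v} [Group X] [Finite X]
    (hX : ¬ HasNormalPComplement p X) (T : Finset X) (hT : ∀ x ∈ T, El p x)
    (hinj : ∀ x ∈ T, ∀ y ∈ T, IsConj x y → x = y) (wt : X → ℕ)
    (hw : ∀ x ∈ T, wt x ≤ blockRank p (principalBlock M ↥(centralizer ({x} : Set X)))) :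
    2 + ∑ x ∈ T, wt x ≤ Nat.card (principalBlock M X) := by
  classical
  have : Fact p.Prime := ⟨hM.1⟩
  have h1T : (1 : X) ∉ T := fun h => (hT 1 h).2 rfl
  have h1 := TwoA.sum_rank_le hM (insert 1 T)
    (by
      intro x hx
      rcases Finset.mem_insert.1 hx with rfl | hx
      · exact ⟨0, by simp⟩
      · exact (hT x hx).1)
    (by
      intro x hx y hy h
      rcases Finset.mem_insert.1 hx with rfl | hx
      · exact (isConj_one_right.1 h).symm
      rcases Finset.mem_insert.1 hy with rfl | hy
      · exact isConj_one_left.1 h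
      · exact hinj x hx y hy h)
  rw [Finset.sum_insert h1T, TwoA.rank_one_eq hM] at h1
  have h2 := two_le_rank hM hX
  have h3 : ∑ x ∈ T, wt x ≤ ∑ x ∈ T, blockRank p (principalBlock M ↥(centralizer ({x} : Set X))) :=
    Finset.sum_le_sum hw
  omega

end Cfsg.Agent.H80.K6
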