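import Cfsg.Agent.H80.K6.Nb
import Cfsg.Agent.H715.Fpr.MathData
import Cfsg.Agent.CoThreeStd.AutInv
import Cfsg.Agent.H603.FD.Spor

/-!
# S4876 (`k(B₀) = 6`): the Mathieu group of degree 12, `p = 3` (helper80)

`9` does not divide the orders `240`, `192`, `10`, `11` of the centralizers of the elements of order 2, 5, 11, so the
character of degree `120` is in the principal 3-block.
-/

set_option autoImplicit false

open Cfsg Subgroup

namespace Cfsg.Agent.H80.K6.MTwelve

open Cfsg.Agent.H61.K6 Cfsg.Agent.H729.PairMathieu Cfsg.Agent.CoThreeStd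

universe u v

theorem card_cent_dvd {G : Type u} {H : Type v} [Group G] [Group H] [Finite H] (f : G →* H)
    (hf : Function.Injective f) (x : G) :
    Nat.card (centralizer ({x} : Set G)) ∣ Nat.card (centralizer ({f x} : Set H)) := by
  have h1 : (centralizer ({x} : Set G)).map f ≤ centralizer ({f x} : Set H) := by
    rintro _ ⟨y, hy, rfl⟩
    rw [mem_centralizer_singleton_iff, ← map_mul, ← map_mul, mem_centralizer_singleton_iff.1 hy]
  have h2 := card_dvd_of_le h1
  rwa [card_map_of_injective hf] at h2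

theorem prime_cases {r : ℕ} (hr : r.Prime) (hd : r ∣ 95040) : r = 2 ∨ r = 3 ∨ r = 5 ∨ r = 11 := by
  rw [show (95040 : ℕ) = 2 ^ 6 * 3 ^ 3 * 5 * 11 by norm_num] at hd
  rcases (Nat.Prime.dvd_mul hr).1 hd with h | h
  · rcases (Nat.Prime.dvd_mul hr).1 h with h | h
    · rcases (Nat.Prime.dvd_mul hr).1 h with h | h
      · exact Or.inl ((Nat.prime_dvd_prime_iff_eq hr Nat.prime_two).1 (hr.dvd_of_dvd_pow h))
      · exact Or.inr (Or.inl ((Nat.prime_dvd_prime_iff_eq hr Nat.prime_three).1 (hr.dvd_of_dvd_pow h)))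
    · exact Or.inr (Or.inr (Or.inl ((Nat.prime_dvd_prime_iff_eq hr Nat.prime_five).1 h)))
  · exact Or.inr (Or.inr (Or.inr ((Nat.prime_dvd_prime_iff_eq hr (by norm_num)).1 h)))

theorem zpowers_cent {G : Type u} [Group G] (x : G) :
    centralizer ((zpowers x : Subgroup G) : Set G) = centralizer ({x} : Set G) := by
  rw [zpowers_eq_closure, centralizer_closure]

theorem not_nine (y : Spor.M12) (hy : (orderOf y).Prime) (h3 : orderOf y ≠ 3) :
    ¬ 9 ∣ Nat.card (centralizer ({y} : Set Spor.M12)) := by
  have hc : Nat.card Spor.M12 = 95040 := CpAutTThree.MTwelve.card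
  have hfin : Finite Spor.M12 := Nat.finite_of_card_ne_zero (by rw [hc]; norm_num)
  rcases prime_cases hy (by rw [← hc]; exact orderOf_dvd_natCard y) with h | h | h | h
  · have h2 : y * y = 1 := by
      have := pow_orderOf_eq_one y
      rwa [h, pow_two] at this
    have h1 : y ≠ 1 := by
      rintro rfl
      rw [orderOf_one] at h
      omega
    rcases AutInv.isA_or_isB h2 h1 with h4 | h4
    · have h5 : Nat.card (centralizer ({y} : Set Spor.M12)) = 240 := h4.2.2
      rw [h5]
      norm_num
    · have h5 : Nat.card (centralizer ({y} : Set Spor.M12)) = 192 := h4.2.2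
      rw [h5]
      norm_num
  · exact absurd h h3
  · have h5 : Nat.card (zpowers (inc12 y)) = 5 := by
      rw [Nat.card_zpowers, orderOf_injective inc12 inc12_injective, h]
    have h6 := (H715.Fpr.MathData.cn24_5 h5).1
    rw [zpowers_cent] at h6
    have h7 := card_cent_dvd inc12 inc12_injective y
    rw [h6] at h7
    intro h8
    have h9 := h8.trans h7
    revert h9
    norm_num
  · have h5 : Nat.card (zpowers (inc12 y)) = 11 := by
      rw [Nat.card_zpowers, orderOf_injective inc12 inc12_injective, h]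
    have h6 := (H715.Fpr.MathData.cn24_11 h5).1
    rw [zpowers_cent] at h6
    have h7 := card_cent_dvd inc12 inc12_injective y
    rw [h6] at h7
    intro h8
    have h9 := h8.trans h7
    revert h9
    norm_num

theorem row : KRow.{u, 0} 3 Spor.M12 := by
  have hc : Nat.card Spor.M12 = 95040 := CpAutTThree.MTwelve.card
  have hfin : Finite Spor.M12 := Nat.finite_of_card_ne_zero (by rw [hc]; norm_num)
  have hdeg := (H603.FD.Spor.m12 (H603.FD.Spor.isM12 (X := Spor.M12) ⟨MulEquiv.refl _⟩)).2.2.2
  refine KRow.of_orders (a := 3) (k := 2) (by norm_num) (by norm_num) (by rw [hc]; norm_num) (by rw [hc]; norm_num)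
    (fun y h1 h2 => ?_) hdeg (by norm_num) (by norm_num)
  exact not_nine y h1 h2

/-- **`M₁₂`, `p = 3`.** -/
theorem row_m12 {S : Type v} [Group S] (h : Spor.IsoM12 S) : KRow.{u, v} 3 S := by
  obtain ⟨e⟩ := h
  exact KRow.congr e.symm row

end Cfsg.Agent.H80.K6.MTwelve
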