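import Cfsg.Agent.H80.K6.Nb
import Cfsg.Agent.H404.K6.SporTits

/-!
# S4876 (`k(B₀) = 6`): the Tits group, `p = 3` (helper80)

The centralizer of an involution of the second class normalizes a four-group containing an involution of the first class,
which commutes with no element of order 3; hence `9` does not divide its order, and the characters outside the principal
3-block have degree divisible by `9`. The degree `78` (or `39`) is not.
-/

set_option autoImplicit false

open Cfsg Subgroup

namespace Cfsg.Agent.H80.K6.Tits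

open Cfsg.Agent.H61.K6 Cfsg.Agent.TitsK
open Cfsg.Agent.FourTwo.Base (LL)

universe u v

/-- the orbit of `z` under `C(d)` has at most three elements -/
theorem card_orbit_le {D : Type u} [Group D] [Finite D] {L : Type v} [Group L] (f : D →* L) (z a b c : L)
    (h : ∀ x : D, f x * z * (f x)⁻¹ = a ∨ f x * z * (f x)⁻¹ = b ∨ f x * z * (f x)⁻¹ = c) (h9 : 9 ∣ Nat.card D) :
    ∃ x : D, orderOf x = 3 ∧ f x * z * (f x)⁻¹ = z := by
  classical
  have h3 : Fact (Nat.Prime 3) := ⟨by norm_num⟩
  let _ : MulAction D L := MulAction.compHom L ((MulAut.conj : L →* MulAut L).comp f)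
  have hs : ∀ (x : D) (l : L), x • l = f x * l * (f x)⁻¹ := fun x l => rfl
  have h1 : MulAction.orbit D z ⊆ ({a, b, c} : Set L) := by
    rintro _ ⟨x, rfl⟩
    have := h x
    simp only [Set.mem_insert_iff, Set.mem_singleton_iff]
    exact this
  have h2 : Nat.card (MulAction.orbit D z) ≤ 3 := by
    rw [Nat.card_coe_set_eq]
    refine (Set.ncard_le_ncard h1 (Set.toFinite _)).trans ?_
    refine (Set.ncard_insert_le _ _).trans ?_
    have h4 := Set.ncard_insert_le b ({c} : Set L)
    have h5 := Set.ncard_singleton c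
    omega
  have h4 : Nat.card (MulAction.orbit D z) * Nat.card (MulAction.stabilizer D z) = Nat.card D := by
    rw [Nat.card_congr (MulAction.orbitEquivQuotientStabilizer D z), mul_comm]
    exact ((MulAction.stabilizer D z).card_eq_card_quotient_mul_card_subgroup.trans (mul_comm _ _)).symm
  have h5 : 3 ∣ Nat.card (MulAction.stabilizer D z) := by
    by_contra hne
    have h6 : Nat.Coprime 9 (Nat.card (MulAction.stabilizer D z)) := by
      have : Nat.Coprime (3 ^ 2) (Nat.card (MulAction.stabilizer D z)) :=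
        Nat.Coprime.pow_left 2 ((Nat.Prime.coprime_iff_not_dvd Nat.prime_three).2 hne)
      exact this
    rw [← h4] at h9
    have h7 := h6.dvd_of_dvd_mul_right h9
    have hne' : Nonempty (MulAction.orbit D z) := ⟨⟨z, MulAction.mem_orbit_self z⟩⟩
    have hfi : Finite (MulAction.orbit D z) := (Set.toFinite ({a, b, c} : Set L)).subset h1
    have h8 : 0 < Nat.card (MulAction.orbit D z) := Nat.card_pos
    have := Nat.le_of_dvd h8 h7
    omega
  obtain ⟨x, hx⟩ := exists_prime_orderOf_dvd_card' (G := MulAction.stabilizer D z) 3 h5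
  exact ⟨x, by rw [orderOf_coe, hx], (hs x z).symm.trans x.2⟩

/-- **the involutions**, abstract version -/
theorem not_nine_LF {L : Type u} [Group L] [Finite L] {T H S : Subgroup L} {z d b c : L} (F : H631.TitsD.LF T H S z d)
    (hV : ∀ g ∈ T, g * d * g⁻¹ = d → g * z * g⁻¹ = z ∨ g * z * g⁻¹ = b ∨ g * z * g⁻¹ = c)
    (a : ↥T) (ha : a * a = 1) (ha1 : a ≠ 1) : ¬ 9 ∣ Nat.card (centralizer ({a} : Set ↥T)) := by
  intro h9
  have h3 : Fact (Nat.Prime 3) := ⟨by norm_num⟩
  have ha2 : (a : L) * a = 1 := congrArg Subtype.val ha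
  have hcomm : ∀ x : centralizer ({a} : Set ↥T), ((x : ↥T) : L) * a = a * (x : ↥T) := fun x =>
    congrArg Subtype.val (mem_centralizer_singleton_iff.1 x.2)
  have key : ∀ (t : L) (x : centralizer ({a} : Set ↥T)),
      t * ((x : ↥T) : L) * t⁻¹ * (t * a * t⁻¹) * (t * ((x : ↥T) : L) * t⁻¹)⁻¹ = t * a * t⁻¹ := by
    intro t x
    calc t * ((x : ↥T) : L) * t⁻¹ * (t * a * t⁻¹) * (t * ((x : ↥T) : L) * t⁻¹)⁻¹
        = t * (((x : ↥T) : L) * a) * ((x : ↥T) : L)⁻¹ * t⁻¹ := by group
      _ = t * (a * (x : ↥T)) * ((x : ↥T) : L)⁻¹ * t⁻¹ := by rw [hcomm x]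
      _ = t * a * t⁻¹ := by group
  have hone : ∀ (t : L) (x : centralizer ({a} : Set ↥T)), orderOf x = 3 → t * ((x : ↥T) : L) * t⁻¹ = 1 → False := by
    intro t x hx h4
    have h5 : ((x : ↥T) : L) = 1 := by
      have h6 : ((x : ↥T) : L) = t⁻¹ * (t * ((x : ↥T) : L) * t⁻¹) * t := by group
      rw [h6, h4]
      group
    have h6 : x = 1 := Subtype.ext (Subtype.ext h5)
    rw [h6, orderOf_one] at hx
    omega
  rcases F.invol a a.2 ha2 (fun h => ha1 (Subtype.ext h)) with ⟨t, ht, hta⟩ | ⟨t, ht, hta⟩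
  · obtain ⟨x, hx⟩ := exists_prime_orderOf_dvd_card' (G := centralizer ({a} : Set ↥T)) 3 ((by norm_num : 3 ∣ 9).trans h9)
    have hx3 : ((x : ↥T) : L) ^ 3 = 1 := by
      have := pow_orderOf_eq_one x
      rw [hx] at this
      exact congrArg (fun y : centralizer ({a} : Set ↥T) => ((y : ↥T) : L)) this
    refine hone t x hx (F.three (t * ((x : ↥T) : L) * t⁻¹) (mul_mem (mul_mem ht x.1.2) (inv_mem ht)) (by
      rw [conj_pow, hx3, mul_one, mul_inv_cancel]) ?_)
    rw [← hta]
    exact key t x
  · let f : centralizer ({a} : Set ↥T) →* L :=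
      (MulAut.conj t).toMonoidHom.comp (T.subtype.comp (centralizer ({a} : Set ↥T)).subtype)
    have hf : ∀ x, f x = t * ((x : ↥T) : L) * t⁻¹ := fun x => rfl
    have hmem : ∀ x, f x ∈ T := fun x => by
      rw [hf]
      exact mul_mem (mul_mem ht x.1.2) (inv_mem ht)
    have hd : ∀ x, f x * d * (f x)⁻¹ = d := fun x => by
      rw [← hta, hf]
      exact key t x
    obtain ⟨x, hx, hxz⟩ := card_orbit_le f z z b c (fun x => hV (f x) (hmem x) (hd x)) h9
    have hx3 : f x ^ 3 = 1 := by
      rw [← map_pow, ← hx, pow_orderOf_eq_one, map_one]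
    exact hone t x hx (F.three (f x) (hmem x) hx3 hxz)

/-- **the involutions of the Tits group** -/
theorem not_nine_TT (a : ↥TT) (ha : a * a = 1) (ha1 : a ≠ 1) : ¬ 9 ∣ Nat.card (centralizer ({a} : Set ↥TT)) := by
  have hfin : Finite LL := by infer_instance
  refine not_nine_LF (b := z1) (c := z * z1) H631.TitsD.lf (fun g hg hd => ?_) a ha ha1
  have h1 := mem_V4_iff.1 (cent_d_V4 (TT_le hg) hd z_mem_V4)
  rcases h1 with h1 | h1 | h1 | h1
  · exfalso
    apply z_ne
    have h2 : (z : LL) = g⁻¹ * (g * z * g⁻¹) * g := by group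
    rw [h2, h1]
    group
  · exact Or.inl h1
  · exact Or.inr (Or.inl h1)
  · exact Or.inr (Or.inr h1)

theorem card_cent_congr {G : Type u} {H : Type v} [Group G] [Group H] (e : G ≃* H) (x : G) :
    Nat.card (centralizer ({x} : Set G)) = Nat.card (centralizer ({e x} : Set H)) := by
  have h1 : (centralizer ({x} : Set G)).map e.toMonoidHom = centralizer ({e x} : Set H) := by
    ext y
    constructor
    · rintro ⟨w, hw, rfl⟩
      rw [mem_centralizer_singleton_iff]
      show e w * e x = e x * e w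
      rw [← map_mul, ← map_mul, mem_centralizer_singleton_iff.1 hw]
    · intro hy
      refine ⟨e.symm y, ?_, e.apply_symm_apply y⟩
      have h2 := mem_centralizer_singleton_iff.1 hy
      refine mem_centralizer_singleton_iff.2 (e.injective ?_)
      rw [map_mul, map_mul, e.apply_symm_apply, h2]
  rw [← h1]
  exact (card_map_of_injective e.injective).symm

theorem prime_cases {r : ℕ} (hr : r.Prime) (hd : r ∣ 17971200) : r = 2 ∨ r = 3 ∨ r = 5 ∨ r = 13 := by
  rw [show (17971200 : ℕ) = 2 ^ 11 * 3 ^ 3 * 5 ^ 2 * 13 by norm_num] at hd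
  rcases (Nat.Prime.dvd_mul hr).1 hd with h | h
  · rcases (Nat.Prime.dvd_mul hr).1 h with h | h
    · rcases (Nat.Prime.dvd_mul hr).1 h with h | h
      · exact Or.inl ((Nat.prime_dvd_prime_iff_eq hr Nat.prime_two).1 (hr.dvd_of_dvd_pow h))
      · exact Or.inr (Or.inl ((Nat.prime_dvd_prime_iff_eq hr Nat.prime_three).1 (hr.dvd_of_dvd_pow h)))
    · exact Or.inr (Or.inr (Or.inl ((Nat.prime_dvd_prime_iff_eq hr Nat.prime_five).1 (hr.dvd_of_dvd_pow h))))
  · exact Or.inr (Or.inr (Or.inr ((Nat.prime_dvd_prime_iff_eq hr (by norm_num)).1 h)))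

/-- transport, abstract -/
theorem transport {S : Type u} [Group S] {L : Type v} [Group L] (T : Subgroup L) (e : Nonempty (S ≃* T))
    (h : ∀ a : T, a * a = 1 → a ≠ 1 → ¬ 9 ∣ Nat.card (centralizer ({a} : Set T))) (y : S) (hy : orderOf y = 2) :
    ¬ 9 ∣ Nat.card (centralizer ({y} : Set S)) := by
  obtain ⟨e⟩ := e
  rw [card_cent_congr e]
  refine h (e y) ?_ ?_
  · rw [← map_mul, ← pow_two, ← hy, pow_orderOf_eq_one, map_one]
  · intro h5
    have h6 : y = 1 := e.injective (h5.trans (map_one e).symm)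
    rw [h6, orderOf_one] at hy
    omega

theorem not_nine {S : Type u} [Group S] (h : Lie.IsoTits S) (y : S) (hy : (orderOf y).Prime) (h3 : orderOf y ≠ 3) :
    ¬ 9 ∣ Nat.card (centralizer ({y} : Set S)) := by
  have T := H631.TitsD.td_of h
  have : Finite S := Nat.finite_of_card_ne_zero (by rw [T.card]; norm_num)
  rcases prime_cases hy (by rw [← T.card]; exact orderOf_dvd_natCard y) with h4 | h4 | h4 | h4
  · exact transport TT (Cfsg.Agent.CpAutTits.Row.exists_equiv h) not_nine_TT y h4
  · exact absurd h4 h3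
  · rw [T.c5 y h4]
    norm_num
  · rw [T.c13 y h4]
    norm_num

/-- **The Tits group, `p = 3`.** -/
theorem row_tits {S : Type v} [Group S] (h : Lie.IsoTits S) : KRow.{u, v} 3 S := by
  have T := H631.TitsD.td_of h
  have : Finite S := Nat.finite_of_card_ne_zero (by rw [T.card]; norm_num)
  obtain ⟨c, hc, h1⟩ := H740.Eight.Tits.down H740.Eight.Tits.degs.2.2.2.2
  have hc' : c ∈ charDegrees S :=
    H740.Eight.Tits.mem_of_equiv (Cfsg.Lie.twistedF4 (ZMod 2) 1) h hc
  refine KRow.of_orders (a := 3) (k := 2) (d := c) (by norm_num) (by norm_num) (by rw [T.card]; norm_num)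
    (by rw [T.card]; norm_num) (fun y h2 h3 => not_nine h y h2 h3) hc' ?_ ?_
  · rcases h1 with rfl | h1
    · norm_num
    · have : c = 39 := by omega
      rw [this]
      norm_num
  · rcases h1 with rfl | h1
    · norm_num
    · have : c = 39 := by omega
      rw [this]
      norm_num

end Cfsg.Agent.H80.K6.Tits
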