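import Cfsg.Agent.H80.K6.Nb
import Cfsg.Agent.H80.K6.Out
import Cfsg.Agent.H404.K6.Sieve
import Cfsg.Agent.H404.K6.Red
import Cfsg.Agent.H715.Fpr.MathData
import Cfsg.Agent.KFacts.M24Two.Out
import Cfsg.Agent.H603.FD.Spor
import Cfsg.Agent.H701.PBPerm
import Cfsg.Agent.S0366

/-!
# S4876 (`k(B₀) = 6`): the Mathieu group of degree 24, `p = 3` (helper80)

`M₂₄` is complete, so `7 ≤ k(B₀(M₂₄))` suffices. `9` does not divide the orders of the centralizers of the elements of prime
order `r ≠ 3`, so the characters `1, 23, 253, 1771, 2024` are in `B₀`. A sixth character `ψ` of degree prime to `3` alone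
would give `24 + ε ψ(1) ≡ 0` modulo `27` with `ε = 0, 1, -1` (elements of order 11).
-/

set_option autoImplicit false

open Cfsg Subgroup

namespace Cfsg.Agent.H80.K6.MTwentyFour

open Cfsg.Agent.H61.K6 Cfsg.Agent.SmallSimple.DegreeData Cfsg.Agent.H703.Lat Cfsg.Agent.Characters.Core
  Cfsg.Agent.Blocks.Basic Cfsg.Agent.H404.K6

universe u v

theorem sum_type {G : Type u} [Group G] [Finite G] [hq : Fact (Nat.Prime 11)] {M : Ideal AlgInt} {P : Sylow 11 G}
    (D : BlockData 11 M P 10 1) (hM : IsPModular 11 M) (hP : Nat.card P = 11)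
    (hC : centralizer ((P : Subgroup G) : Set G) = (P : Subgroup G)) [Fintype P] [DecidableEq P] (χ : IrrCharacter G) :
    ∃ ε : ℤ, (ε = 0 ∨ ε = 1 ∨ ε = -1) ∧ (charDegree (χ : G → ℂ) : ℤ) ≡ ε [ZMOD 11] ∧
      ∑ x ∈ Finset.univ.erase (1 : P), (χ : G → ℂ) x = 10 * ε := by
  have hcE : ((Finset.univ.erase (1 : P)).card : ℂ) = 10 := by
    rw [Finset.card_erase_of_mem (Finset.mem_univ _), Finset.card_univ, ← Nat.card_eq_fintype_card,
      show Nat.card (↥P) = 11 from hP]
    norm_num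
  by_cases hX : χ ∈ D.X
  · refine ⟨-D.d, ?_, ?_, ?_⟩
    · rcases D.d_mem with h | h <;> rw [h] <;> norm_num
    · have h1 := Sieve.modEq_X D hP hX
      refine h1.trans ?_
      rcases D.d_mem with h | h <;> rw [h] <;> decide
    · have h1 := Sieve.sum_X D hX
      rw [h1]
      push_cast
      ring
  · obtain ⟨ε, h1, h2, h3⟩ := Sieve.type D hM hP hC hX
    refine ⟨ε, h1, h2, ?_⟩
    have h4 : ∀ x ∈ Finset.univ.erase (1 : P), (χ : G → ℂ) (x : G) = ((ε : ℤ) : ℂ) := fun x hx =>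
      h3 (x : G) x.2 fun h => Finset.ne_of_mem_erase hx (Subtype.ext h)
    rw [Finset.sum_congr rfl h4, Finset.sum_const, nsmul_eq_mul, hcE]

theorem seven_of {G : Type u} [Group G] [Finite G] (hcard : 27 ∣ Nat.card G) [Fact (Nat.Prime 11)]
    {M11 M : Ideal AlgInt} {P : Sylow 11 G} (D : BlockData 11 M11 P 10 1) (hM11 : IsPModular 11 M11)
    (hP : Nat.card P = 11) (hC : centralizer ((P : Subgroup G) : Set G) = (P : Subgroup G)) (hM : IsPModular 3 M)
    {a b c d : IrrCharacter G} (ha : charDegree (a : G → ℂ) = 23) (hb : charDegree (b : G → ℂ) = 253)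
    (hc : charDegree (c : G → ℂ) = 1771) (hd : charDegree (d : G → ℂ) = 2024) (ma : a ∈ principalBlock M G)
    (mb : b ∈ principalBlock M G) (mc : c ∈ principalBlock M G) (md : d ∈ principalBlock M G) :
    7 ≤ Nat.card (principalBlock M G) := by
  classical
  have : Fact (Nat.Prime 3) := ⟨by norm_num⟩
  have hPf : Fintype P := Fintype.ofFinite P
  have h9 : 3 ^ 2 ∣ Nat.card G := (by norm_num : 3 ^ 2 ∣ 27).trans hcard
  have h6 : 6 ≤ Nat.card (principalBlock M G) := six_le_kB hM (by norm_num) h9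
  by_contra hlt
  have hnd : ∀ χ : IrrCharacter G, χ ∈ principalBlock M G → ¬ 3 ∣ charDegree (χ : G → ℂ) := fun χ hχ h =>
    hlt (seven_of_height hM (by norm_num) h9 hχ h)
  rw [Sieve.card_B0] at h6 hlt
  have hcB : (B0 M G).card = 6 := by omega
  obtain ⟨one, hone⟩ : ∃ one : IrrCharacter G, one = ⟨fun _ => 1, isIrr_one⟩ := ⟨_, rfl⟩
  have ho1 : ∀ g, (one : G → ℂ) g = 1 := fun g => by rw [hone]
  have ho : charDegree (one : G → ℂ) = 1 := by
    apply Blocks.Knorr.charDegree_of_natCast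
    rw [ho1]
    simp
  have mo : one ∈ principalBlock M G := by rw [hone, ← mem_B0]; exact one_mem_B0 hM
  have hne : ∀ {χ ψ : IrrCharacter G}, charDegree (χ : G → ℂ) ≠ charDegree (ψ : G → ℂ) → χ ≠ ψ := fun h e => h (by rw [e])
  have hoa : one ≠ a := hne (by rw [ho, ha]; norm_num)
  have hob : one ≠ b := hne (by rw [ho, hb]; norm_num)
  have hoc : one ≠ c := hne (by rw [ho, hc]; norm_num)
  have hod : one ≠ d := hne (by rw [ho, hd]; norm_num)
  have hab : a ≠ b := hne (by rw [ha, hb]; norm_num)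
  have hac : a ≠ c := hne (by rw [ha, hc]; norm_num)
  have had : a ≠ d := hne (by rw [ha, hd]; norm_num)
  have hbc : b ≠ c := hne (by rw [hb, hc]; norm_num)
  have hbd : b ≠ d := hne (by rw [hb, hd]; norm_num)
  have hcd : c ≠ d := hne (by rw [hc, hd]; norm_num)
  obtain ⟨T, hT⟩ : ∃ T : Finset (IrrCharacter G), T = {one, a, b, c, d} := ⟨_, rfl⟩
  have hTB : T ⊆ B0 M G := by
    intro χ hχ
    rw [hT] at hχ
    simp only [Finset.mem_insert, Finset.mem_singleton] at hχ
    rw [mem_B0]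
    rcases hχ with rfl | rfl | rfl | rfl | rfl <;> assumption
  have hTs : ∀ {A : Type} [AddCommMonoid A] (F : IrrCharacter G → A),
      ∑ χ ∈ T, F χ = F one + (F a + (F b + (F c + F d))) := by
    intro A _ F
    rw [hT, Finset.sum_insert (by simp [hoa, hob, hoc, hod]), Finset.sum_insert (by simp [hab, hac, had]),
      Finset.sum_insert (by simp [hbc, hbd]), Finset.sum_insert (by simp [hcd]), Finset.sum_singleton]
  have hTc : T.card = 5 := by
    rw [Finset.card_eq_sum_ones, hTs (A := ℕ) (fun _ => 1)]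
    norm_num
  have hdc : (B0 M G \ T).card = 1 := by
    rw [Finset.card_sdiff_of_subset hTB]
    omega
  obtain ⟨ψ, hBT⟩ := Finset.card_eq_one.1 hdc
  have hψ : ψ ∈ principalBlock M G := by
    rw [← mem_B0]
    have h1 : ψ ∈ B0 M G \ T := by rw [hBT]; exact Finset.mem_singleton_self _
    exact (Finset.mem_sdiff.1 h1).1
  have hψ3 := hnd ψ hψ
  have hsum : ∀ {A : Type} [AddCommMonoid A] (F : IrrCharacter G → A),
      ∑ χ ∈ B0 M G, F χ = F ψ + (F one + (F a + (F b + (F c + F d)))) := by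
    intro A _ F
    rw [← Finset.sum_sdiff hTB, hBT, hTs, Finset.sum_singleton]
  choose ε hε hmod hval using sum_type D hM11 hP hC
  have key : ∀ {χ : IrrCharacter G} {m : ℕ}, charDegree (χ : G → ℂ) = m → ∀ e : ℤ, (e = 0 ∨ e = 1 ∨ e = -1) →
      (m : ℤ) ≡ e [ZMOD 11] → ε χ = e := by
    intro χ m hm e he hme
    have h1 := hmod χ
    rw [hm] at h1
    have h2 := Int.ModEq.dvd (h1.symm.trans hme)
    rcases hε χ with h | h | h <;> rcases he with rfl | rfl | rfl <;> rw [h] at h2 ⊢ <;> norm_num at h2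
  have e1 : ε one = 1 := key ho 1 (by norm_num) (by decide)
  have ea : ε a = 1 := key ha 1 (by norm_num) (by decide)
  have eb : ε b = 0 := key hb 0 (by norm_num) (by decide)
  have ec : ε c = 0 := key hc 0 (by norm_num) (by decide)
  have ed : ε d = 0 := key hd 0 (by norm_num) (by decide)
  have hth : ∀ x : P, ∃ n : ℤ, ∑ χ ∈ B0 M G, (charDegree (χ : G → ℂ) : ℂ) * (χ : G → ℂ) x = 27 * n := by
    intro x
    obtain ⟨n, hn⟩ := theta_dvd hM (good_principal (G := G) hM) (a := 3) (by norm_num; exact hcard) (x : G)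
    refine ⟨n, ?_⟩
    rw [hn]
    push_cast
    ring
  choose n hn using hth
  have h1 : ∑ x ∈ Finset.univ.erase (1 : P), ∑ χ ∈ B0 M G, (charDegree (χ : G → ℂ) : ℂ) * (χ : G → ℂ) x =
      ∑ x ∈ Finset.univ.erase (1 : P), (27 * n x : ℂ) := Finset.sum_congr rfl fun x _ => hn x
  rw [Finset.sum_comm] at h1
  have h2 : ∀ χ : IrrCharacter G, ∑ x ∈ Finset.univ.erase (1 : P), (charDegree (χ : G → ℂ) : ℂ) * (χ : G → ℂ) x =
      (charDegree (χ : G → ℂ) : ℂ) * (10 * ε χ) := by
    intro χ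
    rw [← Finset.mul_sum, hval]
  simp only [h2] at h1
  rw [hsum, ho, ha, hb, hc, hd, e1, ea, eb, ec, ed, ← Finset.mul_sum] at h1
  have h3 : (charDegree (ψ : G → ℂ) : ℤ) * (10 * ε ψ) + 240 = 27 * ∑ x ∈ Finset.univ.erase (1 : P), n x := by
    have h4 : (((charDegree (ψ : G → ℂ) : ℤ) * (10 * ε ψ) + 240 : ℤ) : ℂ) =
        ((27 * ∑ x ∈ Finset.univ.erase (1 : P), n x : ℤ) : ℂ) := by
      push_cast at h1 ⊢
      linear_combination h1
    exact_mod_cast h4
  generalize ∑ x ∈ Finset.univ.erase (1 : P), n x = N at h3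
  generalize charDegree (ψ : G → ℂ) = f at h3 hψ3
  rcases hε ψ with h | h | h <;> rw [h] at h3 <;> omega

theorem zpowers_cent {G : Type u} [Group G] (x : G) :
    centralizer ((zpowers x : Subgroup G) : Set G) = centralizer ({x} : Set G) := by
  rw [zpowers_eq_closure, centralizer_closure]

theorem prime_cases {q : ℕ} (h1 : q.Prime) (h2 : q ∣ 244823040) :
    q = 2 ∨ q = 3 ∨ q = 5 ∨ q = 7 ∨ q = 11 ∨ q = 23 := by
  rw [show 244823040 = 2 ^ 10 * 3 ^ 3 * 5 * 7 * 11 * 23 by norm_num] at h2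
  have key : ∀ r : ℕ, r.Prime → ∀ k, q ∣ r ^ k → q = r := fun r hr k h =>
    (Nat.prime_dvd_prime_iff_eq h1 hr).1 (h1.dvd_of_dvd_pow h)
  have key1 : ∀ r : ℕ, r.Prime → q ∣ r → q = r := fun r hr h => (Nat.prime_dvd_prime_iff_eq h1 hr).1 h
  simp only [Nat.Prime.dvd_mul h1] at h2
  rcases h2 with ((((h2 | h2) | h2) | h2) | h2) | h2
  · exact Or.inl (key 2 (by norm_num) 10 h2)
  · exact Or.inr (Or.inl (key 3 (by norm_num) 3 h2))
  · exact Or.inr (Or.inr (Or.inl (key1 5 (by norm_num) h2)))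
  · exact Or.inr (Or.inr (Or.inr (Or.inl (key1 7 (by norm_num) h2))))
  · exact Or.inr (Or.inr (Or.inr (Or.inr (Or.inl (key1 11 (by norm_num) h2)))))
  · exact Or.inr (Or.inr (Or.inr (Or.inr (Or.inr (key1 23 (by norm_num) h2)))))

theorem cent_w (y : M24) {n r : ℕ} (hy : orderOf y = r)
    (h : ∀ R : Subgroup M24, Nat.card R = r → Nat.card (centralizer (R : Set M24)) = n) :
    Nat.card (centralizer ({y} : Set M24)) = n := by
  have h1 := h (zpowers y) (by rw [Nat.card_zpowers, hy])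
  rwa [zpowers_cent] at h1

theorem not_nine (y : M24) (hy : (orderOf y).Prime) (h3 : orderOf y ≠ 3) :
    ¬ 9 ∣ Nat.card (centralizer ({y} : Set M24)) := by
  have hc : Nat.card M24 = 244823040 := Cfsg.Agent.SporadicA.M24Trans.card_M24
  have hfin : Finite M24 := Nat.finite_of_card_ne_zero (by rw [hc]; norm_num)
  rcases prime_cases hy (by rw [← hc]; exact orderOf_dvd_natCard y) with h | h | h | h | h | h
  · have h2 : y * y = 1 := by
      have := pow_orderOf_eq_one y
      rwa [h, pow_two] at this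
    have h1 : y ≠ 1 := by
      rintro rfl
      rw [orderOf_one] at h
      omega
    rcases KFacts.M24Two.Count.conj_or y h2 h1 with ⟨g, hg⟩ | ⟨g, hg⟩
    · obtain ⟨g', hg'⟩ := KFacts.M24Two.CentZ.conj_z
      rw [KFacts.M24Two.CentZ.card_centralizer_conj hg, ← KFacts.M24Two.CentZ.card_centralizer_conj hg',
        show Nat.card (centralizer ({KFacts.M24Two.CentZ.z} : Set M24)) = 21504 from KFacts.M24Two.CentZ.card_C]
      norm_num
    · rw [KFacts.M24Two.CentZ.card_centralizer_conj hg, KFacts.M24Two.Orders.card_centralizer_w]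
      norm_num
  · exact absurd h h3
  · rw [cent_w y h fun R hR => (H715.Fpr.MathData.cn24_5 hR).1]
    norm_num
  · rw [cent_w y h fun R hR => (H715.Fpr.MathData.cn24_7 hR).1]
    norm_num
  · rw [cent_w y h fun R hR => (H715.Fpr.MathData.cn24_11 hR).1]
    norm_num
  · rw [cent_w y h fun R hR => (H715.Fpr.MathData.cn24_23 hR).1]
    norm_num

theorem row : KRow.{u, 0} 3 M24 := by
  have hc : Nat.card M24 = 244823040 := Cfsg.Agent.SporadicA.M24Trans.card_M24
  have hfin : Finite M24 := Nat.finite_of_card_ne_zero (by rw [hc]; norm_num)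
  have h3 : Fact (Nat.Prime 3) := ⟨by norm_num⟩
  have h11 : Fact (Nat.Prime 11) := ⟨by norm_num⟩
  refine KGe.of_complete (fun σ => ?_) fun M hM => ?_
  · obtain ⟨k, hk⟩ := KFacts.M24Two.Out.exists_conj σ
    exact ⟨k, fun x => by rw [hk]; rfl⟩
  · have hNB : H709.PB.NB 3 2 M24 := H709.PB.NB.of_orders (a := 3) (by rw [hc]; norm_num) fun y h1 h2 => not_nine y h1 h2
    have h5 := S0366.result
    have h4 : MulAction.IsMultiplyPretransitive M24 GolayPt 4 :=
      MulAction.isMultiplyPretransitive_of_le (n := 5) (by norm_num) (by simp [GolayPt])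
    have hN : Nat.card GolayPt = 24 := by simp [GolayPt]
    obtain ⟨a, ha, -⟩ := H701.PBPerm.exists_four (G := M24) hN (by norm_num) h4 (d := 23) (by norm_num)
    obtain ⟨b, hb, -⟩ := H701.PBPerm.exists_four (G := M24) hN (by norm_num) h4 (d := 253) (by norm_num)
    obtain ⟨-, -, ⟨c, hc'⟩, ⟨d, hd'⟩⟩ := H603.FD.Spor.m24 (H417.RecogMathieu.isM24 (X := M24) ⟨MulEquiv.refl _⟩)
    have hmem : ∀ χ : IrrCharacter M24, ¬ 9 ∣ charDegree (χ : M24 → ℂ) → χ ∈ principalBlock M M24 := by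
      intro χ h
      by_contra hcon
      exact h (hNB M hM χ hcon)
    obtain ⟨y, hy⟩ := exists_prime_orderOf_dvd_card' (G := M24) 11 (by rw [hc]; norm_num)
    obtain ⟨M11, P, hM11, hP, hC, ⟨D⟩⟩ := Sieve.exists_data (q := 11) (e := 10) (t := 1) (by norm_num) hy
      (cent_w y hy fun R hR => (H715.Fpr.MathData.cn24_11 hR).1) (by rw [hc]; norm_num) (by norm_num) (by rw [hc])
    exact seven_of (by rw [hc]; norm_num) D hM11 hP hC hM ha hb hc' hd' (hmem a (by rw [ha]; norm_num))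
      (hmem b (by rw [hb]; norm_num)) (hmem c (by rw [hc']; norm_num)) (hmem d (by rw [hd']; norm_num))

/-- **`M₂₄`, `p = 3`.** -/
theorem row_m24 {S : Type v} [Group S] (h : Spor.IsoM24 S) : KRow.{u, v} 3 S := by
  obtain ⟨e⟩ := h
  exact KRow.congr e.symm row

end Cfsg.Agent.H80.K6.MTwentyFour
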