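import Cfsg.Agent.H80.K6.Crit
import Cfsg.Agent.H709.PB.Deg

/-!
# S4876: criterion H from a bound on the centralizers of the `p`-regular elements (helper80)
-/

set_option autoImplicit false

open Cfsg Subgroup

namespace Cfsg.Agent.H80.K6

open Cfsg.Agent.H61.K6

universe u v

/-- the irreducible characters outside `B₀(X)` have degree divisible by `p ^ k`, and some degree is divisible by `p` but not
by `p ^ k` -/
theorem KRow.of_nb {p k : ℕ} (hp2 : p ≠ 2) {X : Type v} [Group X] [Finite X] (hG : p ^ 2 ∣ Nat.card X)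
    (hNB : H709.PB.NB p k X) {d : ℕ} (hd : d ∈ charDegrees X) (h1 : p ∣ d) (h2 : ¬ p ^ k ∣ d) : KRow.{u, v} p X := by
  obtain ⟨χ, rfl⟩ := hd
  refine KRow.of_height hp2 hG fun M hM => ⟨χ, ?_, h1⟩
  by_contra h
  exact h2 (hNB M hM χ h)

/-- **Criterion H from the centralizers of the elements of prime order `r ≠ p`.** -/
theorem KRow.of_orders {p a k : ℕ} (hp : p.Prime) (hp2 : p ≠ 2) {X : Type v} [Group X] [Finite X]
    (hG : p ^ 2 ∣ Nat.card X) (ha : p ^ a ∣ Nat.card X)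
    (h : ∀ y : X, (orderOf y).Prime → orderOf y ≠ p → ¬ p ^ (a + 1 - k) ∣ Nat.card (centralizer ({y} : Set X)))
    {d : ℕ} (hd : d ∈ charDegrees X) (h1 : p ∣ d) (h2 : ¬ p ^ k ∣ d) : KRow.{u, v} p X := by
  have : Fact p.Prime := ⟨hp⟩
  exact KRow.of_nb hp2 hG (H709.PB.NB.of_orders ha h) hd h1 h2

end Cfsg.Agent.H80.K6
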